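import Groth.Agent.SpSeq40.Elt
import Groth.Agent.HomAlg41.AbutZero

/-!
# Stationary positions of a spectral sequence and abutment data
-/

set_option autoImplicit false
universe v u

open CategoryTheory CategoryTheory.Limits

namespace Groth.Agent.SpSeq40

variable {C : Type u} [Category.{v} C] [Abelian C] {r₀ : ℤ}

lemma next_up (δ pq : ℤ × ℤ) : (ComplexShape.up' δ).next pq = pq + δ :=
  ComplexShape.next_eq' _ rfl

lemma prev_up (δ pq : ℤ × ℤ) : (ComplexShape.up' δ).prev pq = pq - δ :=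
  ComplexShape.prev_eq' _ (sub_add_cancel pq δ)

/-- The homology at a position whose differentials vanish. -/
lemma nonempty_homology_iso {δ : ℤ × ℤ} (K : HomologicalComplex C (ComplexShape.up' δ))
    (pq : ℤ × ℤ) (hin : K.d (pq - δ) pq = 0) (hout : K.d pq (pq + δ) = 0) :
    Nonempty (K.homology pq ≅ K.X pq) := by
  haveI := K.isIso_homologyπ (pq - δ) pq (prev_up δ pq) hin
  haveI := K.isIso_iCycles pq (pq + δ) (next_up δ pq) hout
  exact ⟨(asIso (K.homologyπ pq)).symm ≪≫ asIso (K.iCycles pq)⟩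

variable (E : CohomologicalSpectralSequence C r₀)

lemma nonempty_page_iso_succ {pq : ℤ × ℤ} {r : ℤ} (hs : SpSeq.StationaryAt E pq r) (n : ℤ)
    (hn : r ≤ n) :
    Nonempty ((E.page n (hs.1.trans hn)).X pq ≅
      (E.page (n + 1) ((hs.1.trans hn).trans (Int.le_add_one le_rfl))).X pq) := by
  obtain ⟨e⟩ := nonempty_homology_iso (E.page n (hs.1.trans hn)) pq
    (hs.2 n (hs.1.trans hn) hn).1 (hs.2 n (hs.1.trans hn) hn).2
  exact ⟨e.symm ≪≫ E.iso n (n + 1) pq rfl (hs.1.trans hn)⟩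

lemma nonempty_page_iso {pq : ℤ × ℤ} {r : ℤ} (hs : SpSeq.StationaryAt E pq r) (k : ℤ)
    (hk : r ≤ k) :
    Nonempty ((E.page r hs.1).X pq ≅ (E.page k (hs.1.trans hk)).X pq) := by
  induction k, hk using Int.le_induction with
  | base => exact ⟨Iso.refl _⟩
  | succ n hn ih =>
    obtain ⟨e⟩ := ih
    obtain ⟨e'⟩ := nonempty_page_iso_succ E hs n hn
    exact ⟨e ≪≫ e'⟩

lemma nonempty_stat_iso {pq : ℤ × ℤ} {r r' : ℤ} (hs : SpSeq.StationaryAt E pq r)
    (hs' : SpSeq.StationaryAt E pq r') :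
    Nonempty ((E.page r hs.1).X pq ≅ (E.page r' hs'.1).X pq) := by
  obtain ⟨e⟩ := nonempty_page_iso E hs (max r r') (le_max_left _ _)
  obtain ⟨e'⟩ := nonempty_page_iso E hs' (max r r') (le_max_right _ _)
  exact ⟨e ≪≫ e'.symm⟩

lemma isZero_page_from {pq : ℤ × ℤ} {r : ℤ} (hr : r₀ ≤ r) (h : IsZero ((E.page r hr).X pq))
    (k : ℤ) (hk : r ≤ k) : IsZero ((E.page k (hr.trans hk)).X pq) := by
  induction k, hk using Int.le_induction with
  | base => exact h
  | succ n hn ih =>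
    refine IsZero.of_iso ?_ (E.iso n (n + 1) pq rfl (hr.trans hn)).symm
    exact (HomologicalComplex.exactAt_iff_isZero_homology _ _).1
      (ShortComplex.exact_of_isZero_X₂ _ ih)

variable {E} {H : ℤ → C} (a : SpSeq.Abutment E H)

lemma isZero_limit {pq : ℤ × ℤ} {r : ℤ} (hr : r₀ ≤ r) (h : IsZero ((E.page r hr).X pq)) :
    IsZero ((E.page (a.rk pq) (a.stat pq).1).X pq) := by
  obtain ⟨e⟩ := nonempty_page_iso E (a.stat pq) (max r (a.rk pq)) (le_max_right _ _)
  exact (isZero_page_from E hr h _ (le_max_left _ _)).of_iso e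

/-- The graded piece in total degree `n`, whatever the form of the degree. -/
lemma nonempty_gr_iso_rk (n p : ℤ) :
    Nonempty ((E.page (a.rk (p, n - p)) (a.stat (p, n - p)).1).X (p, n - p) ≅
      SpSeq.grPiece (a.fil n) (a.anti n) p) := by
  have h : ∀ m, p + (n - p) = m →
      Nonempty ((E.page (a.rk (p, n - p)) (a.stat (p, n - p)).1).X (p, n - p) ≅
        SpSeq.grPiece (a.fil m) (a.anti m) p) := by
    rintro _ rfl
    exact ⟨a.β (p, n - p)⟩
  exact h n (by ring)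

lemma nonempty_gr_iso (n p r : ℤ) (hs : SpSeq.StationaryAt E (p, n - p) r) :
    Nonempty ((E.page r hs.1).X (p, n - p) ≅ SpSeq.grPiece (a.fil n) (a.anti n) p) := by
  obtain ⟨e⟩ := nonempty_stat_iso E hs (a.stat (p, n - p))
  obtain ⟨e'⟩ := nonempty_gr_iso_rk a n p
  exact ⟨e ≪≫ e'⟩

lemma isZero_gr (n p r : ℤ) (hr : r₀ ≤ r) (h : IsZero ((E.page r hr).X (p, n - p))) :
    IsZero (SpSeq.grPiece (a.fil n) (a.anti n) p) := by
  obtain ⟨e'⟩ := nonempty_gr_iso_rk a n p
  exact (isZero_limit a hr h).of_iso e'.symm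

lemma fil_succ_eq (n p r : ℤ) (hr : r₀ ≤ r) (h : IsZero ((E.page r hr).X (p, n - p))) :
    a.fil n (p + 1) = a.fil n p :=
  HomAlg41.eq_of_isZero_subquot _ _ _ (isZero_gr a n p r hr h)

lemma fil_eq_of_zero (n : ℤ) {i j : ℤ} (hij : i ≤ j)
    (h : ∀ p, i ≤ p → p < j → a.fil n (p + 1) = a.fil n p) : a.fil n j = a.fil n i := by
  induction j, hij using Int.le_induction with
  | base => rfl
  | succ k hk ih =>
    rw [h k hk (lt_add_one k), ih fun p h1 h2 => h p h1 (h2.trans (lt_add_one k))]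

end Groth.Agent.SpSeq40
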