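import Mathlib
import Groth.Agent.SpSeq40.Abut

/-!
# Short exact sequences between consecutive pages and along the abutment filtration
-/

set_option autoImplicit false
universe v u

open CategoryTheory CategoryTheory.Limits

namespace Groth.Agent.SpSeq40

variable {C : Type u} [Category.{v} C] [Abelian C]

section Page

variable {δ : ℤ × ℤ} (K : HomologicalComplex C (ComplexShape.up' δ))

/-- The boundaries at a position, inside the cycles. -/
noncomputable abbrev bdry (pq : ℤ × ℤ) : C := kernel (K.homologyπ pq)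

/-- Boundaries, cycles, homology. -/
noncomputable def sesB (pq : ℤ × ℤ) : ShortComplex C :=
  ShortComplex.mk (kernel.ι (K.homologyπ pq)) (K.homologyπ pq) (kernel.condition _)

lemma sesB_shortExact (pq : ℤ × ℤ) : (sesB K pq).ShortExact := by
  haveI : Mono (sesB K pq).f := inferInstanceAs (Mono (kernel.ι (K.homologyπ pq)))
  haveI : Epi (sesB K pq).g := inferInstanceAs (Epi (K.homologyπ pq))
  exact { exact := ShortComplex.exact_of_f_is_kernel _ (kernelIsKernel (K.homologyπ pq)) }

/-- The differential onto the boundaries of the next position. -/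
noncomputable def dBdry (pq pq' : ℤ × ℤ) (h : pq + δ = pq') : K.X pq ⟶ bdry K pq' :=
  kernel.lift _ (K.toCycles pq pq') (by
    simp only [HomologicalComplex.toCycles_comp_homologyπ])

/-- Cycles, terms, boundaries of the next position. -/
noncomputable def sesA (pq pq' : ℤ × ℤ) (h : pq + δ = pq') : ShortComplex C :=
  ShortComplex.mk (K.iCycles pq) (dBdry K pq pq' h) (by
    rw [← cancel_mono (kernel.ι (K.homologyπ pq')), ← cancel_mono (K.iCycles pq')]
    simp [dBdry])

lemma sesA_shortExact (pq pq' : ℤ × ℤ) (h : pq + δ = pq') : (sesA K pq pq' h).ShortExact := by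
  have hnext : (ComplexShape.up' δ).next pq = pq' := h ▸ next_up δ pq
  have hprev : (ComplexShape.up' δ).prev pq' = pq := by rw [prev_up, ← h, add_sub_cancel_right]
  haveI : Mono (sesA K pq pq' h).f := inferInstanceAs (Mono (K.iCycles pq))
  haveI : Epi (sesA K pq pq' h).g := by
    change Epi (dBdry K pq pq' h)
    rw [epi_iff_surjective_up_to_refinements]
    intro U g
    have h0 : (g ≫ kernel.ι (K.homologyπ pq')) ≫ K.homologyπ pq' = 0 := by simp
    obtain ⟨U', π, hπ, x, e⟩ :=
      (K.comp_homologyπ_eq_zero_iff_up_to_refinements pq pq' hprev _).1 h0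
    refine ⟨U', π, hπ, x, ?_⟩
    rw [← cancel_mono (kernel.ι (K.homologyπ pq'))]
    simpa [dBdry] using e
  refine { exact := ?_ }
  rw [ShortComplex.exact_iff_exact_up_to_refinements]
  intro U x hx
  change U ⟶ K.X pq at x
  change x ≫ dBdry K pq pq' h = 0 at hx
  have hd : x ≫ K.d pq pq' = 0 := by
    have := hx =≫ (kernel.ι (K.homologyπ pq') ≫ K.iCycles pq')
    simpa [dBdry] using this
  exact ⟨U, 𝟙 U, inferInstance, K.liftCycles x pq' hnext hd, by simp [sesA]⟩

end Page

section Filtration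

variable {X : C} (F : ℤ → Subobject X) (hF : Antitone F)

/-- One step of a filtration. -/
noncomputable def sesFil (p : ℤ) : ShortComplex C :=
  ShortComplex.mk ((F (p + 1)).ofLE (F p) (hF (Int.le_add_one le_rfl))) (cokernel.π _)
    (cokernel.condition _)

lemma sesFil_shortExact (p : ℤ) : (sesFil F hF p).ShortExact := by
  haveI : Mono (sesFil F hF p).f := by dsimp [sesFil]; infer_instance
  haveI : Epi (sesFil F hF p).g := by dsimp [sesFil]; infer_instance
  exact { exact := ShortComplex.exact_of_g_is_cokernel _ (cokernelIsCokernel _) }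

/-- An invariant that is additive on short exact sequences sums over the graded pieces. -/
lemma fil_sum {G : Type*} [AddCommMonoid G] (P : C → Prop) (ν : C → G)
    (hzero : ∀ Y : C, IsZero Y → P Y ∧ ν Y = 0)
    (hiso : ∀ {Y Y' : C}, (Y ≅ Y') → P Y → P Y' ∧ ν Y' = ν Y)
    (hadd : ∀ S : ShortComplex C, S.ShortExact → P S.X₁ → P S.X₃ →
      P S.X₂ ∧ ν S.X₂ = ν S.X₁ + ν S.X₃)
    (a : ℤ) (m : ℕ) (htop : F a = ⊤) (hbot : F (a + m) = ⊥)
    (hP : ∀ i, i < m → P (SpSeq.grPiece F hF (a + i))) :
    P X ∧ ν X = ∑ i ∈ Finset.range m, ν (SpSeq.grPiece F hF (a + i)) := by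
  have key : ∀ k, k ≤ m → P (F (a + ((m - k : ℕ) : ℤ)) : C) ∧
      ν (F (a + ((m - k : ℕ) : ℤ)) : C) =
        ∑ i ∈ Finset.Ico (m - k) m, ν (SpSeq.grPiece F hF (a + i)) := by
    intro k hk
    induction k with
    | zero =>
      rw [Nat.sub_zero, Finset.Ico_self, Finset.sum_empty, hbot]
      refine hzero _ ?_
      rw [IsZero.iff_id_eq_zero, ← cancel_mono (⊥ : Subobject X).arrow]
      simp [Subobject.bot_arrow]
    | succ k ih =>
      obtain ⟨h1, h2⟩ := ih (by omega)
      have hi : m - k = (m - (k + 1)) + 1 := by omega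
      have hc : a + ((m - k : ℕ) : ℤ) = a + ((m - (k + 1) : ℕ) : ℤ) + 1 := by omega
      rw [hc] at h1 h2
      obtain ⟨h3, h4⟩ := hadd _ (sesFil_shortExact F hF (a + ((m - (k + 1) : ℕ) : ℤ))) h1
        (hP _ (by omega))
      refine ⟨h3, ?_⟩
      change ν (F (a + ((m - (k + 1) : ℕ) : ℤ)) : C) = _ at h4
      rw [h4, Finset.sum_eq_sum_Ico_succ_bot (show m - (k + 1) < m by omega), ← hi, add_comm]
      exact congrArg₂ (· + ·) rfl h2
  obtain ⟨h1, h2⟩ := key m le_rfl
  rw [Nat.sub_self, Nat.cast_zero, add_zero, htop] at h1 h2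
  obtain ⟨h3, h4⟩ := hiso (asIso (⊤ : Subobject X).arrow) h1
  exact ⟨h3, by rw [h4, h2, Finset.range_eq_Ico]⟩

end Filtration

variable {r₀ : ℤ} {E : CohomologicalSpectralSequence C r₀} {H : ℤ → C} (a : SpSeq.Abutment E H)

/-- First-quadrant vanishing pins down the abutment filtration. -/
lemma fil_top_bot (n r : ℤ) (hr : r₀ ≤ r) (hfin : a.IsFinite n)
    (hquad : ∀ pq : ℤ × ℤ, pq.1 < 0 ∨ pq.2 < 0 → IsZero ((E.page r hr).X pq))
    (i j : ℤ) (hi : i ≤ 0) (hj : n < j) : a.fil n i = ⊤ ∧ a.fil n j = ⊥ := by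
  obtain ⟨⟨s, hs⟩, ⟨t, ht⟩⟩ := hfin
  have hs : a.fil n s = ⊤ := hs
  have ht : a.fil n t = ⊥ := ht
  constructor
  · rcases le_total i s with h | h
    · exact top_le_iff.1 (hs ▸ a.anti n h)
    · exact (fil_eq_of_zero a n h fun p _ hp => fil_succ_eq a n p r hr
        (hquad _ (Or.inl (show p < 0 by omega)))).trans hs
  · rcases le_total t j with h | h
    · exact le_bot_iff.1 (ht ▸ a.anti n h)
    · exact (fil_eq_of_zero a n h fun p hp _ => fil_succ_eq a n p r hr
        (hquad _ (Or.inr (show n - p < 0 by omega)))).symm.trans ht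

end Groth.Agent.SpSeq40
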