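import Groth.Agent.SpSeq40.Pages

/-!
# Traces of an endomorphism along spectral sequences of `ℂ[X]`-modules
-/

set_option autoImplicit false
universe u

open CategoryTheory CategoryTheory.Limits

namespace Groth.Agent.SpSeq40

section Linear

variable {A B C : Type*} [AddCommGroup A] [AddCommGroup B] [AddCommGroup C] [Module ℂ A]
  [Module ℂ B] [Module ℂ C]

lemma trace_add_of_exact [FiniteDimensional ℂ B] {f : A →ₗ[ℂ] B} {g : B →ₗ[ℂ] C}
    (hf : Function.Injective f) (hg : Function.Surjective g) (hfg : Function.Exact f g)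
    (a : A →ₗ[ℂ] A) (b : B →ₗ[ℂ] B) (c : C →ₗ[ℂ] C) (hab : b ∘ₗ f = f ∘ₗ a)
    (hbc : c ∘ₗ g = g ∘ₗ b) :
    LinearMap.trace ℂ B b = LinearMap.trace ℂ A a + LinearMap.trace ℂ C c := by
  haveI : FiniteDimensional ℂ A := FiniteDimensional.of_injective f hf
  haveI : FiniteDimensional ℂ C := Module.Finite.of_surjective g hg
  obtain ⟨s, hs⟩ := g.exists_rightInverse_of_surjective (LinearMap.range_eq_top.2 hg)
  obtain ⟨r₀, hr₀⟩ := f.exists_leftInverse_of_injective (LinearMap.ker_eq_bot.2 hf)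
  let r := r₀ ∘ₗ (LinearMap.id - s ∘ₗ g)
  have hgf : g ∘ₗ f = 0 := hfg.linearMap_comp_eq_zero
  have hid : LinearMap.id = f ∘ₗ r + s ∘ₗ g := by
    ext x
    have h0 : g (x - s (g x)) = 0 := by
      rw [map_sub, show g (s (g x)) = g x from LinearMap.congr_fun hs (g x), sub_self]
    obtain ⟨y, hy⟩ := (hfg _).1 h0
    change x = f (r₀ (x - s (g x))) + s (g x)
    rw [← hy, show r₀ (f y) = y from LinearMap.congr_fun hr₀ y, hy, sub_add_cancel]
  have hrf : r ∘ₗ f = LinearMap.id := by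
    ext x
    change r₀ (f x - s (g (f x))) = x
    rw [show g (f x) = 0 from LinearMap.congr_fun hgf x, map_zero, sub_zero]
    exact LinearMap.congr_fun hr₀ x
  have hb : b = (b ∘ₗ f) ∘ₗ r + (b ∘ₗ s) ∘ₗ g := by
    rw [LinearMap.comp_assoc, LinearMap.comp_assoc, ← LinearMap.comp_add, ← hid,
      LinearMap.comp_id]
  have h1 : r ∘ₗ (b ∘ₗ f) = a := by
    rw [hab, ← LinearMap.comp_assoc, hrf, LinearMap.id_comp]
  have h2 : g ∘ₗ (b ∘ₗ s) = c := by
    rw [← LinearMap.comp_assoc, ← hbc, LinearMap.comp_assoc, hs, LinearMap.comp_id]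
  conv_lhs => rw [hb]
  rw [map_add, LinearMap.trace_comp_comm', LinearMap.trace_comp_comm' g (b ∘ₗ s), h1, h2]

lemma hasEigenvalue_of_injective {f : A →ₗ[ℂ] B} (hf : Function.Injective f)
    {a : A →ₗ[ℂ] A} {b : B →ₗ[ℂ] B} (hab : b ∘ₗ f = f ∘ₗ a) {μ : ℂ}
    (h : Module.End.HasEigenvalue a μ) : Module.End.HasEigenvalue b μ := by
  obtain ⟨x, hx⟩ := h.exists_hasEigenvector
  refine Module.End.hasEigenvalue_of_hasEigenvector (x := f x) ⟨?_, ?_⟩
  · rw [Module.End.mem_eigenspace_iff]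
    rw [show b (f x) = f (a x) from LinearMap.congr_fun hab x, hx.apply_eq_smul, map_smul]
  · exact fun h0 => hx.2 (hf (h0.trans (map_zero f).symm))

lemma hasEigenvalue_of_surjective [FiniteDimensional ℂ B] {g : B →ₗ[ℂ] C}
    (hg : Function.Surjective g) {b : B →ₗ[ℂ] B} {c : C →ₗ[ℂ] C} (hbc : c ∘ₗ g = g ∘ₗ b) {μ : ℂ}
    (h : Module.End.HasEigenvalue c μ) : Module.End.HasEigenvalue b μ := by
  haveI : FiniteDimensional ℂ C := Module.Finite.of_surjective g hg
  by_contra hb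
  have hinj : Function.Injective (b - μ • LinearMap.id : B →ₗ[ℂ] B) := by
    rw [← LinearMap.ker_eq_bot, Submodule.eq_bot_iff]
    intro x hx
    by_contra hx0
    refine hb (Module.End.hasEigenvalue_of_hasEigenvector (x := x) ⟨?_, hx0⟩)
    rw [Module.End.mem_eigenspace_iff]
    simpa [sub_eq_zero] using hx
  have hsur := LinearMap.injective_iff_surjective.1 hinj
  have hsur' : Function.Surjective (c - μ • LinearMap.id : C →ₗ[ℂ] C) := by
    intro z
    obtain ⟨y, rfl⟩ := hg z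
    obtain ⟨x, rfl⟩ := hsur y
    exact ⟨g x, by simp [show c (g x) = g (b x) from LinearMap.congr_fun hbc x]⟩
  obtain ⟨x, hx⟩ := h.exists_hasEigenvector
  refine hx.2 (LinearMap.injective_iff_surjective.2 hsur' ?_)
  simp [hx.apply_eq_smul]

lemma norm_trace_le [FiniteDimensional ℂ A] (a : A →ₗ[ℂ] A) (β : ℝ)
    (h : ∀ μ : ℂ, Module.End.HasEigenvalue a μ → ‖μ‖ ≤ β) :
    ‖LinearMap.trace ℂ A a‖ ≤ (Module.finrank ℂ A : ℝ) * β := by
  have hs : a.charpoly.Splits := IsAlgClosed.splits _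
  rw [Module.End.trace_eq_sum_roots_charpoly_of_splits hs]
  refine (norm_multiset_sum_le _).trans ?_
  refine (Multiset.sum_le_card_nsmul _ β ?_).trans ?_
  · intro x hx
    obtain ⟨μ, hμ, rfl⟩ := Multiset.mem_map.1 hx
    exact h μ ((Module.End.hasEigenvalue_iff_isRoot_charpoly a μ).2 (Polynomial.isRoot_of_mem_roots hμ))
  · rw [Multiset.card_map, nsmul_eq_mul, ← hs.natDegree_eq_card_roots, LinearMap.charpoly_natDegree]

end Linear

/-- Modules with an endomorphism. -/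
abbrev PMod := ModuleCat.{u} (Polynomial ℂ)

/-- The underlying complex vector space. -/
noncomputable abbrev vec (M : PMod.{u}) : ModuleCat.{u} ℂ :=
  (ModuleCat.restrictScalars (algebraMap ℂ (Polynomial ℂ))).obj M

/-- Multiplication by `X`. -/
noncomputable abbrev Φ (M : PMod.{u}) : vec M →ₗ[ℂ] vec M :=
  ((ModuleCat.restrictScalars (algebraMap ℂ (Polynomial ℂ))).map
    ((Polynomial.X : Polynomial ℂ) • 𝟙 M)).hom

/-- The trace of multiplication by `X`. -/
noncomputable abbrev tr (M : PMod.{u}) : ℂ := LinearMap.trace ℂ _ (Φ M)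

/-- A map, as a linear map of the underlying vector spaces. -/
noncomputable abbrev vmap {M N : PMod.{u}} (g : M ⟶ N) : vec M →ₗ[ℂ] vec N :=
  ((ModuleCat.restrictScalars (algebraMap ℂ (Polynomial ℂ))).map g).hom

lemma Φ_natural {M N : PMod.{u}} (g : M ⟶ N) : Φ N ∘ₗ vmap g = vmap g ∘ₗ Φ M := by
  refine LinearMap.ext fun x => ?_
  change (Polynomial.X : Polynomial ℂ) • (g.hom (x : M)) =
    g.hom ((Polynomial.X : Polynomial ℂ) • (x : M))
  exact (g.hom.map_smul _ _).symm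

lemma vmap_injective {M N : PMod.{u}} (g : M ⟶ N) [Mono g] : Function.Injective (vmap g) :=
  (ModuleCat.mono_iff_injective g).1 inferInstance

lemma vmap_surjective {M N : PMod.{u}} (g : M ⟶ N) [Epi g] : Function.Surjective (vmap g) :=
  (ModuleCat.epi_iff_surjective g).1 inferInstance

lemma vmap_exact {S : ShortComplex PMod.{u}} (hS : S.Exact) :
    Function.Exact (vmap S.f) (vmap S.g) :=
  (ShortComplex.ShortExact.moduleCat_exact_iff_function_exact S).1 hS

/-- Finite-dimensional, of dimension at most `k`, all eigenvalues of norm at most `β`. -/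
structure Bd (M : PMod.{u}) (β : ℝ) (k : ℕ) : Prop where
  fin : Module.Finite ℂ (vec M)
  eig : ∀ μ : ℂ, Module.End.HasEigenvalue (Φ M) μ → ‖μ‖ ≤ β
  dim : Module.finrank ℂ (vec M) ≤ k

lemma Bd.of_mono {M N : PMod.{u}} {β : ℝ} {k : ℕ} (h : Bd N β k) (g : M ⟶ N) [Mono g] :
    Bd M β k :=
  haveI := h.fin
  ⟨FiniteDimensional.of_injective (vmap g) (vmap_injective g),
    fun μ hμ => h.eig μ (hasEigenvalue_of_injective (vmap_injective g) (Φ_natural g) hμ),
    (LinearMap.finrank_le_finrank_of_injective (vmap_injective g)).trans h.dim⟩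

lemma Bd.of_epi {M N : PMod.{u}} {β : ℝ} {k : ℕ} (h : Bd M β k) (g : M ⟶ N) [Epi g] :
    Bd N β k :=
  haveI := h.fin
  ⟨Module.Finite.of_surjective (vmap g) (vmap_surjective g),
    fun μ hμ => h.eig μ (hasEigenvalue_of_surjective (vmap_surjective g) (Φ_natural g) hμ),
    (LinearMap.finrank_le_finrank_of_surjective (vmap_surjective g)).trans h.dim⟩

lemma Bd.norm_tr_le {M : PMod.{u}} {β : ℝ} {k : ℕ} (h : Bd M β k) (hβ : 0 ≤ β) :
    ‖tr M‖ ≤ (k : ℝ) * β :=
  haveI := h.fin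
  (norm_trace_le (Φ M) β h.eig).trans (mul_le_mul_of_nonneg_right (by exact_mod_cast h.dim) hβ)

lemma subsingleton_vec {M : PMod.{u}} (h : IsZero M) : Subsingleton (vec M) :=
  ModuleCat.subsingleton_of_isZero
    ((ModuleCat.restrictScalars (algebraMap ℂ (Polynomial ℂ))).map_isZero h)

lemma tr_eq_zero {M : PMod.{u}} (h : IsZero M) : tr M = 0 := by
  haveI := subsingleton_vec h
  have h0 : Φ M = 0 := LinearMap.ext fun x => Subsingleton.elim _ _
  exact (congrArg (LinearMap.trace ℂ _) h0).trans (map_zero _)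

lemma fin_of_isZero {M : PMod.{u}} (h : IsZero M) : Module.Finite ℂ (vec M) :=
  haveI := subsingleton_vec h
  inferInstance

lemma tr_iso {M N : PMod.{u}} (e : M ≅ N) : tr N = tr M := by
  let e' : vec M ≃ₗ[ℂ] vec N :=
    ((ModuleCat.restrictScalars (algebraMap ℂ (Polynomial ℂ))).mapIso e).toLinearEquiv
  have h : Φ N = e'.conj (Φ M) := by
    refine LinearMap.ext fun x => ?_
    obtain ⟨y, rfl⟩ := e'.surjective x
    rw [LinearEquiv.conj_apply_apply, LinearEquiv.symm_apply_apply]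
    exact LinearMap.congr_fun (Φ_natural e.hom) y
  change LinearMap.trace ℂ _ (Φ N) = LinearMap.trace ℂ _ (Φ M)
  rw [h, LinearMap.trace_conj']

lemma tr_add {S : ShortComplex PMod.{u}} (hS : S.ShortExact) (h2 : Module.Finite ℂ (vec S.X₂)) :
    tr S.X₂ = tr S.X₁ + tr S.X₃ := by
  haveI := hS.mono_f
  haveI := hS.epi_g
  exact trace_add_of_exact (vmap_injective S.f) (vmap_surjective S.g) (vmap_exact hS.exact)
    _ _ _ (Φ_natural S.f) (Φ_natural S.g)

lemma fin_mid {S : ShortComplex PMod.{u}} (hS : S.ShortExact) (h1 : Module.Finite ℂ (vec S.X₁))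
    (h3 : Module.Finite ℂ (vec S.X₃)) : Module.Finite ℂ (vec S.X₂) :=
  haveI := hS.epi_g
  Module.Finite.of_exact (vmap_exact hS.exact) (vmap_surjective S.g)

/-! ## Pages with bounded terms -/

variable (E : E₂CohomologicalSpectralSequence PMod.{u})

/-- The boundedness condition on a page. -/
structure Bdd (r : ℤ) (hr : 2 ≤ r) (N : ℕ) (a c : ℕ → ℝ) (b d : ℕ → ℕ) : Prop where
  quad : ∀ pq : ℤ × ℤ, pq.1 < 0 ∨ pq.2 < 0 → IsZero ((E.page r hr).X pq)
  top : ∀ p q : ℕ, N < q → IsZero ((E.page r hr).X ((p : ℤ), (q : ℤ)))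
  bd : ∀ p q : ℕ, Bd ((E.page r hr).X ((p : ℤ), (q : ℤ))) (a q * c p) (b q * d p)

variable {E} {N : ℕ} {a c : ℕ → ℝ} {b d : ℕ → ℕ} {r : ℤ} {hr : 2 ≤ r}

lemma Bdd.fin (h : Bdd E r hr N a c b d) (pq : ℤ × ℤ) :
    Module.Finite ℂ (vec ((E.page r hr).X pq)) := by
  obtain ⟨p, q⟩ := pq
  by_cases hq : p < 0 ∨ q < 0
  · exact fin_of_isZero (h.quad (p, q) hq)
  · obtain ⟨p', rfl⟩ := Int.eq_ofNat_of_zero_le (show 0 ≤ p by omega)
    obtain ⟨q', rfl⟩ := Int.eq_ofNat_of_zero_le (show 0 ≤ q by omega)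
    exact (h.bd p' q').fin

lemma isZero_next {pq : ℤ × ℤ} (h : IsZero ((E.page r hr).X pq)) :
    IsZero ((E.page (r + 1) (Int.le_add_one hr)).X pq) :=
  isZero_page_from E hr h (r + 1) (Int.le_add_one le_rfl)

lemma Bd.next {pq : ℤ × ℤ} {β : ℝ} {k : ℕ} (h : Bd ((E.page r hr).X pq) β k) :
    Bd ((E.page (r + 1) (Int.le_add_one hr)).X pq) β k :=
  ((h.of_mono ((E.page r hr).iCycles pq)).of_epi ((E.page r hr).homologyπ pq)).of_epi
    (E.iso r (r + 1) pq rfl hr).hom

lemma Bdd.next (h : Bdd E r hr N a c b d) : Bdd E (r + 1) (Int.le_add_one hr) N a c b d :=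
  ⟨fun pq hpq => isZero_next (h.quad pq hpq), fun p q hq => isZero_next (h.top p q hq),
    fun p q => (h.bd p q).next⟩

/-- The sign of a position. -/
noncomputable def sgn (pq : ℤ × ℤ) : ℂ := (-1 : ℂ) ^ (pq.1 + pq.2)

lemma sgn_nat (p q : ℕ) : sgn ((p : ℤ), (q : ℤ)) = (-1 : ℂ) ^ (p + q) := by
  rw [sgn, ← zpow_natCast]; push_cast; rfl

lemma norm_sgn (pq : ℤ × ℤ) : ‖sgn pq‖ = 1 := by simp [sgn]

/-- The inclusion of the first quadrant. -/
def quadEmb (pq : ℕ × ℕ) : ℤ × ℤ := ((pq.1 : ℤ), (pq.2 : ℤ))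

lemma quadEmb_injective : Function.Injective quadEmb := by
  rintro ⟨p, q⟩ ⟨p', q'⟩ h
  simp [quadEmb] at h
  simp [h]

lemma mem_range_quadEmb {pq : ℤ × ℤ} (h : pq ∉ Set.range quadEmb) : pq.1 < 0 ∨ pq.2 < 0 := by
  by_contra hc
  refine h ⟨(pq.1.toNat, pq.2.toNat), ?_⟩
  simp only [quadEmb]
  ext <;> simp only <;> omega

lemma summable_of_bd (hc : ∀ p, 0 ≤ c p) (ha : ∀ q, 0 ≤ a q)
    (hsum : Summable fun p : ℕ => c p * (d p : ℝ)) {M : ℤ × ℤ → PMod.{u}}
    (hquad : ∀ pq : ℤ × ℤ, pq.1 < 0 ∨ pq.2 < 0 → IsZero (M pq))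
    (htop : ∀ p q : ℕ, N < q → IsZero (M ((p : ℤ), (q : ℤ))))
    (hbd : ∀ p q : ℕ, Bd (M ((p : ℤ), (q : ℤ))) (a q * c p) (b q * d p)) :
    Summable fun pq : ℤ × ℤ => ‖tr (M pq)‖ := by
  rw [← quadEmb_injective.summable_iff (fun pq hpq => by
    rw [tr_eq_zero (hquad pq (mem_range_quadEmb hpq)), norm_zero])]
  let g : ℕ → ℝ := fun q => if q ≤ N then a q * b q else 0
  have hg : Summable g := summable_of_ne_finset_zero (s := Finset.range (N + 1)) fun q hq => by
    simp only [Finset.mem_range, not_lt] at hq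
    exact if_neg (by omega)
  have hg0 : ∀ q, 0 ≤ g q := fun q => by
    simp only [g]; split_ifs
    exacts [mul_nonneg (ha q) (Nat.cast_nonneg _), le_rfl]
  refine (hsum.mul_of_nonneg hg (fun p => mul_nonneg (hc p) (Nat.cast_nonneg _)) hg0).of_nonneg_of_le
    (fun _ => norm_nonneg _) ?_
  rintro ⟨p, q⟩
  change ‖tr (M ((p : ℤ), (q : ℤ)))‖ ≤ c p * (d p : ℝ) * g q
  by_cases hq : q ≤ N
  · refine ((hbd p q).norm_tr_le (mul_nonneg (ha q) (hc p))).trans (le_of_eq ?_)
    simp only [g, if_pos hq]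
    push_cast; ring
  · simp only [g, if_neg hq, mul_zero]
    rw [tr_eq_zero (htop p q (not_le.1 hq)), norm_zero]

lemma Bdd.summable (h : Bdd E r hr N a c b d) (hc : ∀ p, 0 ≤ c p) (ha : ∀ q, 0 ≤ a q)
    (hsum : Summable fun p : ℕ => c p * (d p : ℝ)) :
    Summable fun pq : ℤ × ℤ => ‖tr ((E.page r hr).X pq)‖ :=
  summable_of_bd hc ha hsum h.quad h.top h.bd

lemma Bdd.bdry_isZero {pq : ℤ × ℤ} (h : IsZero ((E.page r hr).X pq)) :
    IsZero (bdry (E.page r hr) pq) :=
  IsZero.of_mono (kernel.ι ((E.page r hr).homologyπ pq) ≫ (E.page r hr).iCycles pq) h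

/-- The signed sum over a page. -/
noncomputable def altSum (E : E₂CohomologicalSpectralSequence PMod.{u}) (r : ℤ) (hr : 2 ≤ r) : ℂ :=
  ∑' pq : ℤ × ℤ, sgn pq * tr ((E.page r hr).X pq)

lemma summable_sgn {f : ℤ × ℤ → ℂ} (h : Summable fun pq => ‖f pq‖) :
    Summable fun pq => sgn pq * f pq :=
  Summable.of_norm (h.congr fun pq => by rw [norm_mul, norm_sgn, one_mul])

lemma Bdd.altSum_next (h : Bdd E r hr N a c b d) (hc : ∀ p, 0 ≤ c p) (ha : ∀ q, 0 ≤ a q)
    (hsum : Summable fun p : ℕ => c p * (d p : ℝ)) :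
    altSum E (r + 1) (Int.le_add_one hr) = altSum E r hr := by
  set K := E.page r hr
  have hB : Summable fun pq : ℤ × ℤ => ‖tr (bdry K pq)‖ :=
    summable_of_bd hc ha hsum (fun pq hpq => Bdd.bdry_isZero (h.quad pq hpq))
      (fun p q hq => Bdd.bdry_isZero (h.top p q hq))
      (fun p q => ((h.bd p q).of_mono (K.iCycles _)).of_mono (kernel.ι (K.homologyπ _)))
  let g : ℤ × ℤ → ℂ := fun pq => sgn pq * tr (bdry K pq)
  have hg : Summable g := summable_sgn hB
  have hcyc : ∀ pq, Module.Finite ℂ (vec (K.cycles pq)) := fun pq =>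
    haveI := h.fin pq
    FiniteDimensional.of_injective (vmap (K.iCycles pq)) (vmap_injective _)
  have key : ∀ pq : ℤ × ℤ, sgn pq * tr (K.X pq) =
      sgn pq * tr ((E.page (r + 1) (Int.le_add_one hr)).X pq) +
        (g pq - g (pq + (r, 1 - r))) := by
    intro pq
    have hA := tr_add (sesA_shortExact K pq (pq + (r, 1 - r)) rfl) (h.fin pq)
    have hB' := tr_add (sesB_shortExact K pq) (hcyc pq)
    dsimp only [sesA, sesB] at hA hB'
    have hs : sgn (pq + (r, 1 - r)) = -sgn pq := by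
      simp only [sgn, Prod.fst_add, Prod.snd_add]
      rw [show pq.1 + r + (pq.2 + (1 - r)) = pq.1 + pq.2 + 1 by ring,
        zpow_add_one₀ (by norm_num)]
      ring
    simp only [g, hs]
    rw [hA, hB', tr_iso (E.iso r (r + 1) pq rfl hr)]
    ring
  have hg' : Summable fun pq : ℤ × ℤ => g (pq + (r, 1 - r)) :=
    (Equiv.addRight ((r, 1 - r) : ℤ × ℤ)).summable_iff.2 hg
  have hcancel : ∑' pq : ℤ × ℤ, (g pq - g (pq + (r, 1 - r))) = 0 := by
    rw [Summable.tsum_sub hg hg', sub_eq_zero]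
    exact ((Equiv.addRight ((r, 1 - r) : ℤ × ℤ)).tsum_eq g).symm
  unfold altSum
  rw [tsum_congr key,
    Summable.tsum_add (summable_sgn (h.next.summable hc ha hsum)) (hg.sub hg'), hcancel, add_zero]

lemma Bdd.tsum_nat (h : Bdd E r hr N a c b d) :
    ∑' pq : ℕ × ℕ, (-1 : ℂ) ^ (pq.1 + pq.2) * tr ((E.page r hr).X ((pq.1 : ℤ), (pq.2 : ℤ))) =
      altSum E r hr := by
  rw [altSum, ← quadEmb_injective.tsum_eq (f := fun pq => sgn pq * tr ((E.page r hr).X pq))]
  · exact tsum_congr fun pq => by simp only [quadEmb, sgn_nat]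
  · intro pq hpq
    by_contra hn
    simp [tr_eq_zero (h.quad pq (mem_range_quadEmb hn))] at hpq

lemma Bdd.exists_limit {E : E₂CohomologicalSpectralSequence PMod.{u}}
    (h : Bdd E 2 le_rfl N a c b d) (hc : ∀ p, 0 ≤ c p) (ha : ∀ q, 0 ≤ a q)
    (hsum : Summable fun p : ℕ => c p * (d p : ℝ)) :
    ∃ (R : ℤ) (hR : 2 ≤ R), Bdd E R hR N a c b d ∧ altSum E R hR = altSum E 2 le_rfl ∧
      ∀ pq, SpSeq.StationaryAt E pq R := by
  have key : ∀ R : ℤ, ∀ hR : 2 ≤ R,
      Bdd E R hR N a c b d ∧ altSum E R hR = altSum E 2 le_rfl := by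
    intro R hR
    induction R, hR using Int.le_induction with
    | base => exact ⟨h, rfl⟩
    | succ n hn ih => exact ⟨ih.1.next, (ih.1.altSum_next hc ha hsum).trans ih.2⟩
  refine ⟨N + 2, by omega, (key _ _).1, (key _ _).2, fun pq => ⟨by omega, fun r' h₀ hr' => ?_⟩⟩
  have hB := (key r' h₀).1
  have hz : ∀ src tgt : ℤ × ℤ, tgt = src + (r', 1 - r') → (E.page r' h₀).d src tgt = 0 := by
    intro src tgt e
    by_cases hs : src.1 < 0 ∨ src.2 < 0
    · exact (hB.quad src hs).eq_of_src _ _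
    · by_cases hq : (N : ℤ) < src.2
      · refine IsZero.eq_of_src ?_ _ _
        have := hB.top src.1.toNat src.2.toNat (by omega)
        rwa [Int.toNat_of_nonneg (by omega), Int.toNat_of_nonneg (by omega)] at this
      · refine (hB.quad tgt (Or.inr ?_)).eq_of_tgt _ _
        rw [e]
        simp only [Prod.snd_add]
        omega
  exact ⟨hz _ _ (by simp), hz _ _ rfl⟩

end Groth.Agent.SpSeq40
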