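import Groth.Agent.SpSeq40.Pages

/-!
# Dimension counts along a spectral sequence of vector spaces
-/

set_option autoImplicit false
universe u v

open CategoryTheory CategoryTheory.Limits

namespace Groth.Agent.SpSeq40

variable {K : Type u} [Field K]

lemma dim_add {S : ShortComplex (ModuleCat.{v} K)} (hS : S.ShortExact)
    (h2 : Module.Finite K S.X₂) :
    Module.finrank K S.X₂ = Module.finrank K S.X₁ + Module.finrank K S.X₃ := by
  have hinj : Function.Injective S.f.hom := (ModuleCat.mono_iff_injective S.f).1 hS.mono_f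
  have hsur : Function.Surjective S.g.hom := (ModuleCat.epi_iff_surjective S.g).1 hS.epi_g
  have hex : Function.Exact S.f.hom S.g.hom :=
    (ShortComplex.ShortExact.moduleCat_exact_iff_function_exact S).1 hS.exact
  have h := S.g.hom.finrank_range_add_finrank_ker
  rw [LinearMap.exact_iff.1 hex, LinearMap.finrank_range_of_inj hinj,
    LinearMap.range_eq_top.2 hsur, finrank_top] at h
  omega

lemma finite_mid {S : ShortComplex (ModuleCat.{v} K)} (hS : S.ShortExact)
    (h1 : Module.Finite K S.X₁) (h3 : Module.Finite K S.X₃) : Module.Finite K S.X₂ :=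
  Module.Finite.of_exact ((ShortComplex.ShortExact.moduleCat_exact_iff_function_exact S).1 hS.exact)
    ((ModuleCat.epi_iff_surjective S.g).1 hS.epi_g)

variable {r₀ : ℤ} (E : CohomologicalSpectralSequence (ModuleCat.{v} K) r₀)

lemma finite_page (hfd : ∀ pq : ℤ × ℤ, Module.Finite K ((E.page r₀ le_rfl).X pq)) (k : ℤ)
    (hk : r₀ ≤ k) (pq : ℤ × ℤ) : Module.Finite K ((E.page k hk).X pq) := by
  induction k, hk using Int.le_induction with
  | base => exact hfd pq
  | succ n hn ih =>
    haveI := ih
    haveI : Module.Finite K ((E.page n hn).cycles pq) :=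
      Module.Finite.of_injective ((E.page n hn).iCycles pq).hom
        ((ModuleCat.mono_iff_injective _).1 inferInstance)
    haveI : Module.Finite K ((E.page n hn).homology pq) :=
      Module.Finite.of_surjective ((E.page n hn).homologyπ pq).hom
        ((ModuleCat.epi_iff_surjective _).1 inferInstance)
    exact Module.Finite.equiv (E.iso n (n + 1) pq rfl hn).toLinearEquiv

lemma dim_page_succ (hfd : ∀ pq : ℤ × ℤ, Module.Finite K ((E.page r₀ le_rfl).X pq)) (k : ℤ)
    (hk : r₀ ≤ k) (pq : ℤ × ℤ) :
    Module.finrank K ((E.page k hk).X pq) =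
      Module.finrank K ((E.page (k + 1) (Int.le_add_one hk)).X pq) +
        Module.finrank K (bdry (E.page k hk) pq : ModuleCat.{v} K) +
          Module.finrank K (bdry (E.page k hk) (pq + (k, 1 - k)) : ModuleCat.{v} K) := by
  have hX := finite_page E hfd k hk pq
  haveI := hX
  haveI : Module.Finite K ((E.page k hk).cycles pq) :=
    Module.Finite.of_injective ((E.page k hk).iCycles pq).hom
      ((ModuleCat.mono_iff_injective _).1 inferInstance)
  have hA := dim_add (sesA_shortExact (E.page k hk) pq (pq + (k, 1 - k)) rfl) hX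
  have hB := dim_add (sesB_shortExact (E.page k hk) pq)
    (inferInstanceAs (Module.Finite K ((E.page k hk).cycles pq)))
  dsimp only [sesA, sesB] at hA hB
  have he := (E.iso k (k + 1) pq rfl hk).toLinearEquiv.finrank_eq
  have key : ∀ X Z b H N b' : ℕ, X = Z + b' → Z = b + H → H = N → X = N + b + b' := by
    intros; omega
  exact key _ _ _ _ _ _ hA hB he

lemma dim_page_antitone (hfd : ∀ pq : ℤ × ℤ, Module.Finite K ((E.page r₀ le_rfl).X pq))
    (pq : ℤ × ℤ) {i : ℤ} (hi : r₀ ≤ i) (j : ℤ) (hj : i ≤ j) :
    Module.finrank K ((E.page j (hi.trans hj)).X pq) ≤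
      Module.finrank K ((E.page i hi).X pq) := by
  induction j, hj using Int.le_induction with
  | base => exact le_rfl
  | succ n hn ih =>
    have := dim_page_succ E hfd n (hi.trans hn) pq
    omega

lemma d_eq_zero_of_bdry {k : ℤ} (hk : r₀ ≤ k) (pq pq' : ℤ × ℤ) (h : pq + (k, 1 - k) = pq')
    (hfd : ∀ pq : ℤ × ℤ, Module.Finite K ((E.page r₀ le_rfl).X pq))
    (h0 : Module.finrank K (bdry (E.page k hk) pq' : ModuleCat.{v} K) = 0) :
    (E.page k hk).d pq pq' = 0 := by
  haveI := finite_page E hfd k hk pq'
  haveI : Module.Finite K ((E.page k hk).cycles pq') :=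
    Module.Finite.of_injective ((E.page k hk).iCycles pq').hom
      ((ModuleCat.mono_iff_injective _).1 inferInstance)
  haveI : Module.Finite K (bdry (E.page k hk) pq' : ModuleCat.{v} K) :=
    Module.Finite.of_injective (kernel.ι ((E.page k hk).homologyπ pq')).hom
      ((ModuleCat.mono_iff_injective _).1 inferInstance)
  haveI := Module.finrank_zero_iff.1 h0
  have hz : dBdry (E.page k hk) pq pq' h = 0 := (ModuleCat.isZero_of_subsingleton _).eq_of_tgt _ _
  have e : dBdry (E.page k hk) pq pq' h ≫ kernel.ι ((E.page k hk).homologyπ pq') =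
      (E.page k hk).toCycles pq pq' := kernel.lift_ι _ _ _
  rw [← HomologicalComplex.toCycles_i, ← e, hz, zero_comp, zero_comp]

end Groth.Agent.SpSeq40
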