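import Groth.Agent.SpSeq40.Abut

/-!
# A degeneration criterion through a morphism of spectral sequences
-/

set_option autoImplicit false
universe v u

open CategoryTheory CategoryTheory.Limits

namespace Groth.Agent.SpSeq40

variable {C : Type u} [Category.{v} C] [Abelian C]

lemma mono_homologyMap_f {δ : ℤ × ℤ} {K K' : HomologicalComplex C (ComplexShape.up' δ)}
    (f : K ⟶ K') (pq : ℤ × ℤ) (hin : K.d (pq - δ) pq = 0) (hin' : K'.d (pq - δ) pq = 0)
    [Mono (f.f pq)] : Mono (HomologicalComplex.homologyMap f pq) := by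
  haveI := K.isIso_homologyπ (pq - δ) pq (prev_up δ pq) hin
  haveI := K'.isIso_homologyπ (pq - δ) pq (prev_up δ pq) hin'
  haveI : Mono (HomologicalComplex.cyclesMap f pq) :=
    mono_of_mono_fac (HomologicalComplex.cyclesMap_i f pq)
  have e := HomologicalComplex.homologyπ_naturality f pq
  rw [show HomologicalComplex.homologyMap f pq =
    inv (K.homologyπ pq) ≫ HomologicalComplex.cyclesMap f pq ≫ K'.homologyπ pq by
      rw [IsIso.eq_inv_comp]; exact e]
  infer_instance

theorem degenerates_two (E E' : E₂CohomologicalSpectralSequence C) (φ : E ⟶ E')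
    (hE : ∀ pq : ℤ × ℤ, pq.1 < 0 ∨ pq.2 < 0 → IsZero ((E.page 2 le_rfl).X pq))
    (hd' : ∀ (r : ℤ) (hr : 2 ≤ r) (pq : ℤ × ℤ), pq.1 ≠ 0 →
      (E'.page r hr).d pq (pq + (r, 1 - r)) = 0)
    (hφd : ∀ (r : ℤ) (hr : 2 ≤ r) (pq : ℤ × ℤ),
      (φ.hom r hr).f pq ≫ (E'.page r hr).d pq (pq + (r, 1 - r)) = 0)
    (hmono : ∀ pq : ℤ × ℤ, Mono ((φ.hom 2 le_rfl).f pq)) : SpSeq.Degenerates E 2 := by
  have step : ∀ (r : ℤ) (hr : 2 ≤ r),
      (∀ pq : ℤ × ℤ, r ≤ pq.1 → Mono ((φ.hom r hr).f pq)) →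
      ∀ pq pq' : ℤ × ℤ, (E.page r hr).d pq pq' = 0 := by
    intro r hr hm pq pq'
    by_cases h : pq + (r, 1 - r) = pq'
    · subst h
      by_cases hp : pq.1 < 0
      · exact (isZero_page_from E le_rfl (hE pq (Or.inl hp)) r hr).eq_of_src _ _
      · haveI := hm (pq + (r, 1 - r)) (by simp only [Prod.fst_add]; omega)
        rw [← cancel_mono ((φ.hom r hr).f (pq + (r, 1 - r))), zero_comp, ← (φ.hom r hr).comm]
        exact hφd r hr pq
    · exact (E.page r hr).shape pq pq' h
  have key : ∀ (r : ℤ) (hr : 2 ≤ r), ∀ pq : ℤ × ℤ, r ≤ pq.1 → Mono ((φ.hom r hr).f pq) := by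
    intro r hr
    induction r, hr using Int.le_induction with
    | base => exact fun pq _ => hmono pq
    | succ n hn ih =>
      intro pq hpq
      haveI := ih pq (by omega)
      have hin' : (E'.page n hn).d (pq - (n, 1 - n)) pq = 0 := by
        have h := hd' n hn (pq - (n, 1 - n)) (by simp only [Prod.fst_sub]; omega)
        rwa [sub_add_cancel] at h
      haveI := mono_homologyMap_f (φ.hom n hn) pq (step n hn ih _ _) hin'
      have e := φ.comm n (n + 1) pq rfl hn
      rw [show (φ.hom (n + 1) (Int.le_add_one hn)).f pq = (E.iso n (n + 1) pq rfl hn).inv ≫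
        HomologicalComplex.homologyMap (φ.hom n hn) pq ≫ (E'.iso n (n + 1) pq rfl hn).hom by
          rw [e, Iso.inv_hom_id_assoc]]
      infer_instance
  exact ⟨le_rfl, fun r h₀ _ pq pq' => step r h₀ (key r h₀) pq pq'⟩

end Groth.Agent.SpSeq40
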