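import Mathlib.CategoryTheory.Abelian.Refinements
import Groth.Prelude.Def_SpSeq

/-!
# Subobjects in an abelian category, tested on generalised elements up to refinement
-/

set_option autoImplicit false
universe v u

open CategoryTheory CategoryTheory.Limits

namespace Groth.Agent.SpSeq40

variable {A : Type u} [Category.{v} A] [Abelian A] {X Y : A}

lemma le_of_forall {S T : Subobject X}
    (h : ∀ ⦃U : A⦄ (x : U ⟶ X), S.Factors x → T.Factors x) : S ≤ T :=
  Subobject.le_of_comm (T.factorThru S.arrow (h _ S.factors_self)) (T.factorThru_arrow _ _)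

lemma eq_of_forall {S T : Subobject X}
    (h : ∀ ⦃U : A⦄ (x : U ⟶ X), S.Factors x ↔ T.Factors x) : S = T :=
  le_antisymm (le_of_forall fun U x => (h x).1) (le_of_forall fun U x => (h x).2)

lemma factors_iff_comp_eq_zero (S : Subobject X) {U : A} (x : U ⟶ X) :
    S.Factors x ↔ x ≫ cokernel.π S.arrow = 0 := by
  refine ⟨fun h => ?_, fun h => ?_⟩
  · rw [← S.factorThru_arrow x h, Category.assoc, cokernel.condition, comp_zero]
  · rw [← Abelian.monoLift_comp S.arrow x h]
    exact Subobject.factors_comp_arrow _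

lemma factors_of_epi_comp {S : Subobject X} {U' U : A} (π : U' ⟶ U) [Epi π] {x : U ⟶ X}
    (h : S.Factors (π ≫ x)) : S.Factors x := by
  rw [factors_iff_comp_eq_zero] at h ⊢
  rwa [Category.assoc, ← cancel_epi π, comp_zero] at *

lemma factors_neg {S : Subobject X} {U : A} {x : U ⟶ X} (h : S.Factors x) : S.Factors (-x) := by
  rw [← Category.id_comp x, ← Preadditive.neg_comp]
  exact S.factors_of_factors_right _ h

lemma factors_sub {S : Subobject X} {U : A} {x y : U ⟶ X} (hx : S.Factors x) (hy : S.Factors y) :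
    S.Factors (x - y) := by
  rw [sub_eq_add_neg]
  exact Subobject.factors_add _ _ hx (factors_neg hy)

lemma image_factors_iff (f : Y ⟶ X) {U : A} (x : U ⟶ X) :
    (imageSubobject f).Factors x ↔
      ∃ (U' : A) (π : U' ⟶ U) (_ : Epi π) (y : U' ⟶ Y), π ≫ x = y ≫ f := by
  constructor
  · intro h
    obtain ⟨U', π, hπ, y, hy⟩ := surjective_up_to_refinements_of_epi (factorThruImageSubobject f)
      ((imageSubobject f).factorThru x h)
    refine ⟨U', π, hπ, y, ?_⟩
    have := hy =≫ (imageSubobject f).arrow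
    simpa using this
  · rintro ⟨U', π, hπ, y, hy⟩
    refine factors_of_epi_comp π ?_
    have e : π ≫ x = (y ≫ factorThruImageSubobject f) ≫ (imageSubobject f).arrow := by
      rw [hy, Category.assoc, imageSubobject_arrow_comp]
    rw [e]
    exact Subobject.factors_comp_arrow _

lemma image_factors_comp (f : Y ⟶ X) {U : A} (y : U ⟶ Y) : (imageSubobject f).Factors (y ≫ f) :=
  (image_factors_iff f _).2 ⟨U, 𝟙 U, inferInstance, y, by simp⟩

/-- Membership in the image of a subobject `S` under `f`. -/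
lemma image_arrow_factors_iff (S : Subobject Y) (f : Y ⟶ X) {U : A} (x : U ⟶ X) :
    (imageSubobject (S.arrow ≫ f)).Factors x ↔
      ∃ (U' : A) (π : U' ⟶ U) (_ : Epi π) (y : U' ⟶ Y), S.Factors y ∧ π ≫ x = y ≫ f := by
  rw [image_factors_iff]
  constructor
  · rintro ⟨U', π, hπ, y, hy⟩
    exact ⟨U', π, hπ, y ≫ S.arrow, Subobject.factors_comp_arrow _, by rw [hy, Category.assoc]⟩
  · rintro ⟨U', π, hπ, y, hy, e⟩
    exact ⟨U', π, hπ, S.factorThru y hy, by rw [e, Subobject.factorThru_arrow_assoc]⟩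

lemma sup_factors_add {S T : Subobject X} {U : A} {a b : U ⟶ X} (ha : S.Factors a)
    (hb : T.Factors b) : (S ⊔ T).Factors (a + b) :=
  Subobject.factors_add _ _ (Subobject.sup_factors_of_factors_left ha)
    (Subobject.sup_factors_of_factors_right hb)

lemma sup_factors_iff (S T : Subobject X) {U : A} (x : U ⟶ X) :
    (S ⊔ T).Factors x ↔ ∃ (U' : A) (π : U' ⟶ U) (_ : Epi π) (a b : U' ⟶ X),
      S.Factors a ∧ T.Factors b ∧ π ≫ x = a + b := by
  constructor
  · intro h
    let D : (S : A) ⊞ (T : A) ⟶ X := biprod.desc S.arrow T.arrow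
    have hle : S ⊔ T ≤ imageSubobject D := by
      refine sup_le (le_of_forall fun V y hy => ?_) (le_of_forall fun V y hy => ?_)
      · have := image_factors_comp D (S.factorThru y hy ≫ biprod.inl)
        simpa [D] using this
      · have := image_factors_comp D (T.factorThru y hy ≫ biprod.inr)
        simpa [D] using this
    obtain ⟨U', π, hπ, y, hy⟩ := (image_factors_iff D x).1 (Subobject.factors_of_le x hle h)
    refine ⟨U', π, hπ, (y ≫ biprod.fst) ≫ S.arrow, (y ≫ biprod.snd) ≫ T.arrow,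
      Subobject.factors_comp_arrow _, Subobject.factors_comp_arrow _, ?_⟩
    rw [hy]
    simp [D, biprod.desc_eq, Preadditive.comp_add]
  · rintro ⟨U', π, hπ, a, b, ha, hb, e⟩
    refine factors_of_epi_comp π ?_
    rw [e]
    exact sup_factors_add ha hb

lemma pullback_factors' (f : Y ⟶ X) (S : Subobject X) {U : A} (y : U ⟶ Y) :
    ((Subobject.pullback f).obj S).Factors y ↔ S.Factors (y ≫ f) :=
  Limits.pullback_factors_iff f S y

lemma kernel_factors' (f : Y ⟶ X) {U : A} (y : U ⟶ Y) :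
    (kernelSubobject f).Factors y ↔ y ≫ f = 0 :=
  ⟨fun h => by rw [← (kernelSubobject f).factorThru_arrow y h, Category.assoc,
    kernelSubobject_arrow_comp, comp_zero], fun h => kernelSubobject_factors f y h⟩

lemma top_factors' {U : A} (x : U ⟶ X) : (⊤ : Subobject X).Factors x :=
  Subobject.top_factors x

/-! ## Subquotients -/

section Subquot

variable (Z B : Subobject X) (h : B ≤ Z)

/-- The projection of a subobject onto its subquotient. -/
noncomputable def sqπ : (Z : A) ⟶ SpSeq.subquot Z B h := cokernel.π _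

instance : Epi (sqπ Z B h) := by unfold sqπ SpSeq.subquot; infer_instance

lemma sqπ_eq_zero_iff {U : A} (t : U ⟶ Z) :
    t ≫ sqπ Z B h = 0 ↔ B.Factors (t ≫ Z.arrow) := by
  constructor
  · intro ht
    have hw : Abelian.monoLift (B.ofLE Z h) t ht ≫ B.ofLE Z h = t :=
      Abelian.monoLift_comp _ _ _
    rw [← hw, Category.assoc, Subobject.ofLE_arrow]
    exact Subobject.factors_comp_arrow _
  · intro ht
    have : t = B.factorThru _ ht ≫ B.ofLE Z h := by
      rw [← cancel_mono Z.arrow]; simp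
    rw [this, Category.assoc, sqπ]
    exact (congrArg (_ ≫ ·) (cokernel.condition _)).trans comp_zero

lemma isZero_subquot_iff : IsZero (SpSeq.subquot Z B h) ↔ Z ≤ B := by
  constructor
  · intro h0
    refine le_of_forall fun U x hx => ?_
    rw [← Z.factorThru_arrow x hx, ← sqπ_eq_zero_iff Z B h]
    exact h0.eq_of_tgt _ _
  · intro hle
    rw [IsZero.iff_id_eq_zero, ← cancel_epi (sqπ Z B h), Category.comp_id, comp_zero,
      ← Category.id_comp (sqπ Z B h), sqπ_eq_zero_iff, Category.id_comp]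
    exact Subobject.factors_of_le _ hle Z.factors_self

variable {Z B} {X' : A} (f : X ⟶ X') {Z' B' : Subobject X'} (h' : B' ≤ Z')
  (hZ : ∀ ⦃U : A⦄ (x : U ⟶ X), Z.Factors x → Z'.Factors (x ≫ f))
  (hB : ∀ ⦃U : A⦄ (x : U ⟶ X), B.Factors x → B'.Factors (x ≫ f))

/-- The map of subquotients induced by a morphism of ambient objects. -/
noncomputable def sqMap : SpSeq.subquot Z B h ⟶ SpSeq.subquot Z' B' h' :=
  cokernel.desc _ (Z'.factorThru (Z.arrow ≫ f) (hZ _ Z.factors_self) ≫ sqπ Z' B' h') (by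
    rw [← Category.assoc, sqπ_eq_zero_iff]
    simp only [Category.assoc, Subobject.factorThru_arrow, Subobject.ofLE_arrow_assoc]
    exact hB _ B.factors_self)

@[reassoc]
lemma sqπ_sqMap : sqπ Z B h ≫ sqMap h f h' hZ hB =
    Z'.factorThru (Z.arrow ≫ f) (hZ _ Z.factors_self) ≫ sqπ Z' B' h' :=
  cokernel.π_desc _ _ _

lemma sq_comp_map {U : A} (t : U ⟶ Z) :
    ∃ t' : U ⟶ (Z' : A), t' ≫ Z'.arrow = t ≫ Z.arrow ≫ f ∧
      t ≫ sqπ Z B h ≫ sqMap h f h' hZ hB = t' ≫ sqπ Z' B' h' :=
  ⟨t ≫ Z'.factorThru (Z.arrow ≫ f) (hZ _ Z.factors_self), by simp,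
    by rw [sqπ_sqMap, Category.assoc]⟩

lemma mono_sqMap (hm : ∀ ⦃U : A⦄ (x : U ⟶ X), Z.Factors x → B'.Factors (x ≫ f) → B.Factors x) :
    Mono (sqMap h f h' hZ hB) := by
  rw [Preadditive.mono_iff_cancel_zero]
  intro U g hg
  obtain ⟨U', π, hπ, t, ht⟩ := surjective_up_to_refinements_of_epi (sqπ Z B h) g
  rw [← cancel_epi π, comp_zero, ht, sqπ_eq_zero_iff]
  refine hm _ (Subobject.factors_comp_arrow _) ?_
  obtain ⟨t', e1, e2⟩ := sq_comp_map h f h' hZ hB t
  have h0 : t' ≫ sqπ Z' B' h' = 0 := by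
    rw [← e2, ← Category.assoc, ← ht, Category.assoc, hg, comp_zero]
  have := (sqπ_eq_zero_iff Z' B' h' t').1 h0
  rwa [e1, ← Category.assoc] at this

lemma epi_sqMap (he : ∀ ⦃U : A⦄ (y : U ⟶ X'), Z'.Factors y →
      ∃ (U' : A) (π : U' ⟶ U) (_ : Epi π) (x : U' ⟶ X), Z.Factors x ∧
        B'.Factors (π ≫ y - x ≫ f)) :
    Epi (sqMap h f h' hZ hB) := by
  rw [epi_iff_surjective_up_to_refinements]
  intro U g
  obtain ⟨U', π, hπ, t, ht⟩ := surjective_up_to_refinements_of_epi (sqπ Z' B' h') g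
  obtain ⟨U'', π', hπ', x, hx, hd⟩ := he (t ≫ Z'.arrow) (Subobject.factors_comp_arrow _)
  obtain ⟨t', e1, e2⟩ := sq_comp_map h f h' hZ hB (Z.factorThru x hx)
  refine ⟨U'', π' ≫ π, inferInstance, Z.factorThru x hx ≫ sqπ Z B h, ?_⟩
  rw [Category.assoc _ _ g, ht, ← Category.assoc π', Category.assoc (Z.factorThru x hx), e2,
    ← sub_eq_zero, ← Preadditive.sub_comp, sqπ_eq_zero_iff, Preadditive.sub_comp,
    Category.assoc, e1, Subobject.factorThru_arrow_assoc]
  exact hd

lemma isIso_sqMap (hm : ∀ ⦃U : A⦄ (x : U ⟶ X), Z.Factors x → B'.Factors (x ≫ f) → B.Factors x)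
    (he : ∀ ⦃U : A⦄ (y : U ⟶ X'), Z'.Factors y →
      ∃ (U' : A) (π : U' ⟶ U) (_ : Epi π) (x : U' ⟶ X), Z.Factors x ∧
        B'.Factors (π ≫ y - x ≫ f)) :
    IsIso (sqMap h f h' hZ hB) :=
  haveI := mono_sqMap h f h' hZ hB hm
  haveI := epi_sqMap h f h' hZ hB he
  isIso_of_mono_of_epi _

end Subquot

/-- The subquotient by the zero subobject. -/
noncomputable def subquotBotIso (Z : Subobject X) (h : (⊥ : Subobject X) ≤ Z) :
    SpSeq.subquot Z ⊥ h ≅ (Z : A) :=
  haveI : Mono (sqπ Z ⊥ h) := by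
    rw [Preadditive.mono_iff_cancel_zero]
    intro U t ht
    rw [sqπ_eq_zero_iff, Subobject.bot_factors_iff_zero] at ht
    rwa [← cancel_mono Z.arrow, zero_comp]
  haveI : IsIso (sqπ Z ⊥ h) := isIso_of_mono_of_epi _
  (asIso (sqπ Z ⊥ h)).symm

end Groth.Agent.SpSeq40
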