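import Mathlib
import Groth.Agent.SpSeq40.Elt

/-!
# Convergence for filtered complexes

The hypotheses are phrased on generalised elements: far right the filtration steps have no cohomology
(`NoH`), far left they have the cohomology of the whole complex (`InjH`, `SurjH`).
-/

set_option autoImplicit false
universe v u

open CategoryTheory CategoryTheory.Limits

namespace Groth.Agent.SpSeq40

variable {A : Type u} [Category.{v} A] [Abelian A] (K : SpSeq.FilCx A)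

/-- The cohomology class of a cycle. -/
noncomputable def hc (C : CochainComplex A ℤ) (n : ℤ) {U : A} (x : U ⟶ C.X n)
    (h : x ≫ C.d n (n + 1) = 0) : U ⟶ C.homology n :=
  C.liftCycles x (n + 1) (by simp) h ≫ C.homologyπ n

lemma hc_surj (C : CochainComplex A ℤ) {n : ℤ} {U : A} (γ : U ⟶ C.homology n) :
    ∃ (U' : A) (π : U' ⟶ U) (_ : Epi π) (x : U' ⟶ C.X n) (h : x ≫ C.d n (n + 1) = 0),
      π ≫ γ = hc C n x h :=
  C.eq_liftCycles_homologyπ_up_to_refinements γ (n + 1) (by simp)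

lemma hc_eq_iff (C : CochainComplex A ℤ) {n : ℤ} {U : A} (x x' : U ⟶ C.X n)
    (h : x ≫ C.d n (n + 1) = 0) (h' : x' ≫ C.d n (n + 1) = 0) :
    hc C n x h = hc C n x' h' ↔ ∃ (U' : A) (π : U' ⟶ U) (_ : Epi π) (w : U' ⟶ C.X (n - 1)),
      π ≫ x = π ≫ x' + w ≫ C.d (n - 1) n :=
  C.liftCycles_comp_homologyπ_eq_iff_up_to_refinements (n - 1) n (n + 1) (by simp) (by simp)
    x x' h h'

lemma hc_eq_zero_iff (C : CochainComplex A ℤ) {n : ℤ} {U : A} (x : U ⟶ C.X n)
    (h : x ≫ C.d n (n + 1) = 0) :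
    hc C n x h = 0 ↔ ∃ (U' : A) (π : U' ⟶ U) (_ : Epi π) (w : U' ⟶ C.X (n - 1)),
      π ≫ x = w ≫ C.d (n - 1) n :=
  C.liftCycles_comp_homologyπ_eq_zero_iff_up_to_refinements (n - 1) n (n + 1) (by simp) (by simp)
    x h

lemma comp_hc (C : CochainComplex A ℤ) {n : ℤ} {U U' : A} (π : U' ⟶ U) (x : U ⟶ C.X n)
    (h : x ≫ C.d n (n + 1) = 0) :
    π ≫ hc C n x h = hc C n (π ≫ x) (by rw [Category.assoc, h, comp_zero]) := by
  rw [hc, hc, ← Category.assoc, HomologicalComplex.comp_liftCycles]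

lemma hc_congr (C : CochainComplex A ℤ) {n : ℤ} {U : A} {x x' : U ⟶ C.X n} (e : x = x')
    (h : x ≫ C.d n (n + 1) = 0) : hc C n x h = hc C n x' (e ▸ h) := by
  subst e; rfl

lemma hc_map {C D : CochainComplex A ℤ} (φ : C ⟶ D) {n : ℤ} {U : A} (x : U ⟶ C.X n)
    (h : x ≫ C.d n (n + 1) = 0) :
    hc C n x h ≫ HomologicalComplex.homologyMap φ n =
      hc D n (x ≫ φ.f n) (by rw [Category.assoc, φ.comm, reassoc_of% h, zero_comp]) := by
  simp [hc]

lemma filX_factors_iff (p n : ℤ) {U : A} (x : U ⟶ K.obj.X n) :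
    (K.filX p n).Factors x ↔ ∃ y, y ≫ (K.fil p).arrow.f n = x := by
  constructor
  · intro h
    have h' : (Subobject.mk ((K.fil p).arrow.f n)).Factors x := h
    refine ⟨(Subobject.mk ((K.fil p).arrow.f n)).factorThru x h' ≫
      (Subobject.underlyingIso _).hom, ?_⟩
    rw [Category.assoc, Subobject.underlyingIso_hom_comp_eq_mk]
    exact Subobject.factorThru_arrow _ _ h'
  · rintro ⟨y, rfl⟩
    exact Subobject.factors_of_factors_right y (Subobject.mk_factors_self _)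

lemma filX_d {p i : ℤ} (j : ℤ) {U : A} {x : U ⟶ K.obj.X i} (h : (K.filX p i).Factors x) :
    (K.filX p j).Factors (x ≫ K.obj.d i j) := by
  obtain ⟨y, rfl⟩ := (filX_factors_iff K _ _ x).1 h
  rw [Category.assoc, (K.fil p).arrow.comm i j, ← Category.assoc]
  exact (filX_factors_iff K _ _ _).2 ⟨_, rfl⟩

lemma filX_le {p q : ℤ} (n : ℤ) (h : p ≤ q) {U : A} {x : U ⟶ K.obj.X n}
    (hx : (K.filX q n).Factors x) : (K.filX p n).Factors x :=
  Subobject.factors_of_le x (K.filX_anti n h) hx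

/-- The step `q` has no cohomology in degree `n`. -/
def NoH (q n : ℤ) : Prop :=
  ∀ ⦃U : A⦄ (y : U ⟶ K.obj.X n), (K.filX q n).Factors y → y ≫ K.obj.d n (n + 1) = 0 →
    ∃ (U' : A) (π : U' ⟶ U) (_ : Epi π) (w : U' ⟶ K.obj.X (n - 1)),
      (K.filX q (n - 1)).Factors w ∧ π ≫ y = w ≫ K.obj.d (n - 1) n

/-- The cohomology of the step `q` in degree `n` injects into that of the complex. -/
def InjH (q n : ℤ) : Prop :=
  ∀ ⦃U : A⦄ (y : U ⟶ K.obj.X n) (w : U ⟶ K.obj.X (n - 1)), (K.filX q n).Factors y →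
    y = w ≫ K.obj.d (n - 1) n →
    ∃ (U' : A) (π : U' ⟶ U) (_ : Epi π) (w' : U' ⟶ K.obj.X (n - 1)),
      (K.filX q (n - 1)).Factors w' ∧ π ≫ y = w' ≫ K.obj.d (n - 1) n

/-- The cohomology of the step `q` in degree `n` surjects onto that of the complex. -/
def SurjH (q n : ℤ) : Prop :=
  ∀ ⦃U : A⦄ (z : U ⟶ K.obj.X n), z ≫ K.obj.d n (n + 1) = 0 →
    ∃ (U' : A) (π : U' ⟶ U) (_ : Epi π) (y : U' ⟶ K.obj.X n) (w : U' ⟶ K.obj.X (n - 1)),
      (K.filX q n).Factors y ∧ y ≫ K.obj.d n (n + 1) = 0 ∧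
        π ≫ z = y + w ≫ K.obj.d (n - 1) n

lemma noH_succ {q n : ℤ} (h : NoH K q (n + 1)) {U : A} (y : U ⟶ K.obj.X (n + 1))
    (hy : (K.filX q (n + 1)).Factors y) (hd : y ≫ K.obj.d (n + 1) (n + 1 + 1) = 0) :
    ∃ (U' : A) (π : U' ⟶ U) (_ : Epi π) (w : U' ⟶ K.obj.X n),
      (K.filX q n).Factors w ∧ π ≫ y = w ≫ K.obj.d n (n + 1) := by
  have h' := h y hy hd
  rwa [show n + 1 - 1 = n from add_sub_cancel_right n 1] at h'

lemma injH_succ {q n : ℤ} (h : InjH K q (n + 1)) {U : A} (y : U ⟶ K.obj.X (n + 1))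
    (w : U ⟶ K.obj.X n) (hy : (K.filX q (n + 1)).Factors y) (e : y = w ≫ K.obj.d n (n + 1)) :
    ∃ (U' : A) (π : U' ⟶ U) (_ : Epi π) (w' : U' ⟶ K.obj.X n),
      (K.filX q n).Factors w' ∧ π ≫ y = w' ≫ K.obj.d n (n + 1) := by
  unfold InjH at h
  rw [show n + 1 - 1 = n from add_sub_cancel_right n 1] at h
  exact h y w hy e

/-- The standing hypothesis. -/
structure Good : Prop where
  right : ∀ n : ℤ, ∃ b : ℤ, ∀ q, b ≤ q → NoH K q n
  left : ∀ n : ℤ, ∃ a : ℤ, ∀ q, q ≤ a → InjH K q n ∧ SurjH K q n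

lemma noH_of_eq_bot {q n : ℤ} (h : K.filX q n = ⊥) : NoH K q n := by
  intro U y hy _
  rw [h, Subobject.bot_factors_iff_zero] at hy
  exact ⟨U, 𝟙 U, inferInstance, 0, Subobject.factors_zero, by simp [hy]⟩

lemma injH_of_eq_top {q n : ℤ} (h : K.filX q (n - 1) = ⊤) : InjH K q n := fun U y w _ e =>
  ⟨U, 𝟙 U, inferInstance, w, h ▸ top_factors' w, by simp [e]⟩

lemma surjH_of_eq_top {q n : ℤ} (h : K.filX q n = ⊤) : SurjH K q n := fun U z hz =>
  ⟨U, 𝟙 U, inferInstance, z, 0, h ▸ top_factors' z, hz, by simp⟩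

lemma good_of_finite (hK : ∀ n : ℤ, (K.XFil n).IsFinite) : Good K := by
  refine ⟨fun n => ?_, fun n => ?_⟩
  · obtain ⟨-, b, hb⟩ := hK n
    exact ⟨b, fun q hq => noH_of_eq_bot K (le_bot_iff.1 (hb ▸ K.filX_anti n hq))⟩
  · obtain ⟨⟨a, ha⟩, -⟩ := hK n
    obtain ⟨⟨a', ha'⟩, -⟩ := hK (n - 1)
    exact ⟨min a a', fun q hq => ⟨injH_of_eq_top K (top_le_iff.1
        (ha' ▸ K.filX_anti (n - 1) (hq.trans (min_le_right _ _)))),
      surjH_of_eq_top K (top_le_iff.1 (ha ▸ K.filX_anti n (hq.trans (min_le_left _ _))))⟩⟩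

lemma good_of_homology
    (h0 : ∀ n : ℤ, ∃ p₀ : ℤ, ∀ p : ℤ, p₀ ≤ p → IsZero ((K.fil p : CochainComplex A ℤ).homology n))
    (h1 : ∀ n : ℤ, ∃ p₁ : ℤ, ∀ p : ℤ, p ≤ p₁ →
      IsIso (HomologicalComplex.homologyMap (K.fil p).arrow n)) : Good K := by
  refine ⟨fun n => ?_, fun n => ?_⟩
  · obtain ⟨b, hb⟩ := h0 n
    refine ⟨b, fun q hq U y hy hd => ?_⟩
    obtain ⟨t, rfl⟩ := (filX_factors_iff K _ _ y).1 hy
    have ht : t ≫ (K.fil q : CochainComplex A ℤ).d n (n + 1) = 0 := by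
      rw [← cancel_mono ((K.fil q).arrow.f (n + 1)), Category.assoc, ← (K.fil q).arrow.comm,
        ← Category.assoc, hd, zero_comp]
    obtain ⟨U', π, hπ, w, hw⟩ := (hc_eq_zero_iff _ t ht).1 ((hb q hq).eq_of_tgt _ _)
    refine ⟨U', π, hπ, w ≫ (K.fil q).arrow.f (n - 1), (filX_factors_iff K _ _ _).2 ⟨w, rfl⟩, ?_⟩
    rw [← Category.assoc, hw, Category.assoc, ← (K.fil q).arrow.comm, Category.assoc]
  · obtain ⟨a, ha⟩ := h1 n
    refine ⟨a, fun q hq => ⟨fun U y w hy e => ?_, fun U z hz => ?_⟩⟩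
    · haveI := ha q hq
      obtain ⟨t, rfl⟩ := (filX_factors_iff K _ _ y).1 hy
      have ht : t ≫ (K.fil q : CochainComplex A ℤ).d n (n + 1) = 0 := by
        rw [← cancel_mono ((K.fil q).arrow.f (n + 1)), Category.assoc, ← (K.fil q).arrow.comm,
          ← Category.assoc, e]
        simp
      obtain ⟨U', π, hπ, w', hw⟩ := (HomologicalComplex.mono_homologyMap_iff_up_to_refinements
        (K := (K.fil q : CochainComplex A ℤ)) (φ := (K.fil q).arrow)
        (n - 1) n (n + 1) (by simp) (by simp)).1 inferInstance t ht w e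
      refine ⟨U', π, hπ, w' ≫ (K.fil q).arrow.f (n - 1), (filX_factors_iff K _ _ _).2 ⟨w', rfl⟩, ?_⟩
      rw [← Category.assoc, hw, Category.assoc, ← (K.fil q).arrow.comm, Category.assoc]
    · haveI := ha q hq
      obtain ⟨U', π, hπ, t, ht, w, hw⟩ := (HomologicalComplex.epi_homologyMap_iff_up_to_refinements
        (K := (K.fil q : CochainComplex A ℤ)) (φ := (K.fil q).arrow)
        (n - 1) n (n + 1) (by simp) (by simp)).1 inferInstance z hz
      refine ⟨U', π, hπ, t ≫ (K.fil q).arrow.f n, w, (filX_factors_iff K _ _ _).2 ⟨t, rfl⟩, ?_, hw⟩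
      rw [Category.assoc, (K.fil q).arrow.comm, ← Category.assoc, ht, zero_comp]

lemma ztop_le_zsub (r : ℕ) (p n : ℤ) : K.ZTop p n ≤ K.ZSub r p n :=
  sup_le_sup_right (inf_le_inf_left _ (SpSeq.FilCx.kernelSubobject_le_pullback _ _)) _

lemma bsub_le_bbot (r : ℕ) (p n : ℤ) : K.BSub r p n ≤ K.BBot p n :=
  sup_le_sup_right (inf_le_inf_left _ (imageSubobject_comp_le _ _)) _

lemma zsub_eq_ztop {r : ℕ} {p n : ℤ} (hr : 1 ≤ r) (h : NoH K (p + r) (n + 1)) :
    K.ZSub r p n = K.ZTop p n := by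
  refine le_antisymm (sup_le (le_of_forall fun U x hx => ?_) le_sup_right) (ztop_le_zsub K r p n)
  rw [Subobject.inf_factors, pullback_factors'] at hx
  obtain ⟨U', π, hπ, w, hw, e⟩ := noH_succ K h _ hx.2 (by simp)
  refine (sup_factors_iff _ _ x).2 ⟨U', π, hπ, π ≫ x - w, w,
    (Subobject.inf_factors _).2 ⟨factors_sub (Subobject.factors_of_factors_right π hx.1)
      (filX_le K (p := p) (q := p + r) n (by omega) hw), (kernel_factors' _ _).2 ?_⟩,
      filX_le K (p := p + 1) (q := p + r) n (by omega) hw,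
    (sub_add_cancel _ _).symm⟩
  rw [Preadditive.sub_comp, Category.assoc, e, sub_self]

lemma bsub_eq_bbot {r : ℕ} {p n : ℤ} (hr : 1 ≤ r) (h : InjH K (p - r + 1) n) :
    K.BSub r p n = K.BBot p n := by
  refine le_antisymm (bsub_le_bbot K r p n) (sup_le (le_of_forall fun U x hx => ?_) le_sup_right)
  rw [Subobject.inf_factors] at hx
  obtain ⟨U', π, hπ, w, e⟩ := (image_factors_iff _ x).1 hx.2
  obtain ⟨U'', π', hπ', w', hw', e'⟩ :=
    h (π ≫ x) w (Subobject.factors_of_factors_right π (filX_le K n (by omega) hx.1)) e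
  refine Subobject.sup_factors_of_factors_left ((Subobject.inf_factors _).2
    ⟨hx.1, factors_of_epi_comp (π' ≫ π) ?_⟩)
  rw [Category.assoc, e']
  exact (image_arrow_factors_iff _ _ _).2 ⟨U'', 𝟙 _, inferInstance, w', hw', by simp⟩

lemma filH_factors_iff (p n : ℤ) {U : A} (γ : U ⟶ K.obj.homology n) :
    (K.filH p n).Factors γ ↔ ∃ (U' : A) (π : U' ⟶ U) (_ : Epi π) (y : U' ⟶ K.obj.X n)
      (h : y ≫ K.obj.d n (n + 1) = 0), (K.filX p n).Factors y ∧ π ≫ γ = hc K.obj n y h := by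
  rw [SpSeq.FilCx.filH, image_factors_iff]
  constructor
  · rintro ⟨U', π, hπ, δ, e⟩
    obtain ⟨U'', π', hπ', t, ht, e'⟩ := hc_surj _ δ
    refine ⟨U'', π' ≫ π, inferInstance, t ≫ (K.fil p).arrow.f n, ?_,
      (filX_factors_iff K _ _ _).2 ⟨t, rfl⟩, ?_⟩
    · rw [Category.assoc, (K.fil p).arrow.comm, reassoc_of% ht, zero_comp]
    · rw [Category.assoc, e, ← Category.assoc, e', hc_map]
  · rintro ⟨U', π, hπ, y, h, hy, e⟩
    obtain ⟨t, rfl⟩ := (filX_factors_iff K _ _ y).1 hy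
    have ht : t ≫ (K.fil p : CochainComplex A ℤ).d n (n + 1) = 0 := by
      rw [← cancel_mono ((K.fil p).arrow.f (n + 1)), Category.assoc, ← (K.fil p).arrow.comm,
        ← Category.assoc, h, zero_comp]
    exact ⟨U', π, hπ, hc _ n t ht, by rw [e, hc_map]⟩

lemma filH_eq_bot {q n : ℤ} (h : NoH K q n) : K.filH q n = ⊥ := by
  refine le_bot_iff.1 (le_of_forall fun U γ hγ => ?_)
  obtain ⟨U', π, hπ, y, hd, hy, e⟩ := (filH_factors_iff K _ _ γ).1 hγ
  obtain ⟨U'', π', hπ', w, -, e'⟩ := h y hy hd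
  rw [Subobject.bot_factors_iff_zero, ← cancel_epi π, comp_zero, e,
    hc_eq_zero_iff]
  exact ⟨U'', π', hπ', w, e'⟩

lemma filH_eq_top {q n : ℤ} (h : SurjH K q n) : K.filH q n = ⊤ := by
  refine top_le_iff.1 (le_of_forall fun U γ _ => ?_)
  obtain ⟨U', π, hπ, z, hz, e⟩ := hc_surj _ γ
  obtain ⟨U'', π', hπ', y, w, hy, hd, e'⟩ := h z hz
  refine (filH_factors_iff K _ _ γ).2 ⟨U'', π' ≫ π, inferInstance, y, hd, hy, ?_⟩
  rw [Category.assoc, e, comp_hc, hc_eq_iff]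
  exact ⟨U'', 𝟙 _, inferInstance, w, by simpa using e'⟩

variable {K}

lemma hfil_isFinite (hK : Good K) (n : ℤ) : (K.HFil n).IsFinite := by
  obtain ⟨b, hb⟩ := hK.right n
  obtain ⟨a, ha⟩ := hK.left n
  exact ⟨⟨a, filH_eq_top K (ha a le_rfl).2⟩, ⟨b, filH_eq_bot K (hb b le_rfl)⟩⟩

lemma exists_stationary (hK : Good K) (p n : ℤ) :
    ∃ r₀ : ℕ, ∀ r, r₀ ≤ r → K.ZSub r p n = K.ZTop p n ∧ K.BSub r p n = K.BBot p n := by
  obtain ⟨b, hb⟩ := hK.right (n + 1)
  obtain ⟨a, ha⟩ := hK.left n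
  refine ⟨max 1 (max (b - p).toNat (p + 1 - a).toNat), fun r hr =>
    ⟨zsub_eq_ztop K (le_trans (le_max_left _ _) hr) (hb _ ?_),
      bsub_eq_bbot K (le_trans (le_max_left _ _) hr) (ha _ ?_).1⟩⟩
  all_goals simp only [max_le_iff, Int.toNat_le] at hr; omega

lemma isFinite_separated {B : Type*} [Category B] [Abelian B] {L : SpSeq.FilObj B}
    (h : L.IsFinite) : L.IsSeparated ∧ L.IsExhaustive ∧ L.IsComplete := by
  obtain ⟨⟨a, ha⟩, ⟨b, hb⟩⟩ := h
  refine ⟨⟨fun x _ => bot_le, fun x hx => hb ▸ hx ⟨b, rfl⟩⟩,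
    ⟨fun x _ => le_top, fun x hx => ha ▸ hx ⟨a, rfl⟩⟩, fun T f hf => ?_⟩
  have hiso : ∀ q, b ≤ q → IsIso (cokernel.π (L.fil q).arrow) := fun q hq => by
    have h0 : L.fil q = ⊥ := le_bot_iff.1 (hb ▸ L.anti hq)
    exact cokernel.π_of_zero (show (L.fil q).arrow = 0 by rw [h0, Subobject.bot_arrow])
  haveI := hiso b le_rfl
  refine ⟨f b ≫ inv (cokernel.π (L.fil b).arrow), fun p => ?_⟩
  rcases le_total p b with hp | hp
  · rw [← hf p b hp, Category.assoc]
    congr 1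
    rw [IsIso.inv_comp_eq, SpSeq.FilObj.quotMap, cokernel.π_desc]
  · haveI := hiso p hp
    rw [← hf b p hp, Category.assoc, Category.assoc]
    conv_rhs => rw [← Category.comp_id (f p)]
    congr 1
    rw [← cancel_epi (cokernel.π (L.fil p).arrow)]
    simp [SpSeq.FilObj.quotMap]

lemma converges_of_good (hK : Good K) : K.Converges := by
  refine ⟨fun p n => ?_, ⟨fun p n => ?_, fun n => ?_⟩, fun n => ?_⟩
  · obtain ⟨r₀, h⟩ := exists_stationary hK p n
    exact ⟨r₀, fun r hr => (h r hr).1.trans (h r₀ le_rfl).1.symm⟩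
  · obtain ⟨r₀, h⟩ := exists_stationary hK p n
    refine ⟨⟨?_, fun S hS => (h r₀ le_rfl).1 ▸ hS ⟨r₀, rfl⟩⟩,
      ⟨?_, fun S hS => (h r₀ le_rfl).2 ▸ hS ⟨r₀, rfl⟩⟩⟩
    · rintro _ ⟨r, rfl⟩; exact ztop_le_zsub K r p n
    · rintro _ ⟨r, rfl⟩; exact bsub_le_bbot K r p n
  · exact ⟨(isFinite_separated (hfil_isFinite hK n)).1, (isFinite_separated (hfil_isFinite hK n)).2.1⟩
  · exact (isFinite_separated (hfil_isFinite hK n)).2.2

lemma isBounded_one (hK : Good K) : K.IsBounded 1 := by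
  intro n
  obtain ⟨b, hb⟩ := hK.right n
  obtain ⟨b', hb'⟩ := hK.right (n + 1)
  obtain ⟨a, ha⟩ := hK.left n
  obtain ⟨a', ha'⟩ := hK.left (n + 1)
  refine (Set.finite_Icc (min a a') (max b b')).subset fun p hp => ?_
  by_contra hpn
  apply hp
  rw [SpSeq.FilCx.E, isZero_subquot_iff]
  refine sup_le (le_of_forall fun U x hx => ?_) le_sup_right
  rw [Subobject.inf_factors, pullback_factors'] at hx
  obtain ⟨hxp, hxd⟩ := hx
  simp only [Nat.cast_one] at hxd
  simp only [Set.mem_Icc, not_and, not_le] at hpn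
  -- in both cases `π ≫ x` is a boundary from `F^p` plus an element of `F^(p+1)`
  suffices h : ∃ (U' : A) (π : U' ⟶ U) (_ : Epi π) (w : U' ⟶ K.obj.X (n - 1))
      (s : U' ⟶ K.obj.X n), (K.filX p (n - 1)).Factors w ∧ (K.filX (p + 1) n).Factors s ∧
        π ≫ x = w ≫ K.obj.d (n - 1) n + s by
    obtain ⟨U', π, hπ, w, s, hw, hs, e⟩ := h
    refine (sup_factors_iff _ _ x).2 ⟨U', π, hπ, _, s, (Subobject.inf_factors _).2
      ⟨filX_d K n hw, (image_arrow_factors_iff _ _ _).2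
        ⟨U', 𝟙 _, inferInstance, w, ?_, by simp⟩⟩, hs, e⟩
    simpa using hw
  obtain ⟨U', π, hπ, y, hy, e⟩ : ∃ (U' : A) (π : U' ⟶ U) (_ : Epi π) (y : U' ⟶ K.obj.X n),
      (K.filX (p + 1) n).Factors y ∧ π ≫ x ≫ K.obj.d n (n + 1) = y ≫ K.obj.d n (n + 1) := by
    rcases lt_or_ge (max b b') p with hp' | hp'
    · have hq : b' ≤ p + 1 := by have := le_max_right b b'; omega
      exact noH_succ K (hb' _ hq) _ hxd (by simp)
    · have hlt : p < min a a' := by
        rcases lt_or_ge p (min a a') with h | h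
        · exact h
        · exact absurd (hpn h) (not_lt.2 hp')
      have hq : p + 1 ≤ a' := by have := min_le_right a a'; omega
      exact injH_succ K (ha' _ hq).1 _ x hxd rfl
  have hcp : (K.filX p n).Factors (π ≫ x - y) :=
    factors_sub (Subobject.factors_of_factors_right π hxp) (filX_le K n (Int.le_add_one le_rfl) hy)
  have hcd : (π ≫ x - y) ≫ K.obj.d n (n + 1) = 0 := by
    rw [Preadditive.sub_comp, Category.assoc, e, sub_self]
  rcases lt_or_ge (max b b') p with hp' | hp'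
  · obtain ⟨U'', π', hπ', w, hw, e'⟩ :=
      hb p (by have := le_max_left b b'; omega) _ hcp hcd
    exact ⟨U'', π' ≫ π, inferInstance, w, π' ≫ y, hw,
      Subobject.factors_of_factors_right π' hy,
      by rw [← e', Preadditive.comp_sub, Category.assoc, sub_add_cancel]⟩
  · have hlt : p < min a a' := by
      rcases lt_or_ge p (min a a') with h | h
      · exact h
      · exact absurd (hpn h) (not_lt.2 hp')
    obtain ⟨U₁, π₁, hπ₁, z, w, hz, hzd, e₁⟩ :=
      (ha (p + 1) (by have := min_le_left a a'; omega)).2 _ hcd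
    obtain ⟨U₂, π₂, hπ₂, w', hw', e₂⟩ :=
      (ha p (by have := min_le_left a a'; omega)).1 (π₁ ≫ (π ≫ x - y) - z) w
        (factors_sub (Subobject.factors_of_factors_right π₁ hcp)
          (filX_le K n (Int.le_add_one le_rfl) hz)) (by rw [e₁, add_sub_cancel_left])
    refine ⟨U₂, π₂ ≫ π₁ ≫ π, inferInstance, w', π₂ ≫ z + π₂ ≫ π₁ ≫ y, hw',
      Subobject.factors_add _ _ (Subobject.factors_of_factors_right π₂ hz)
        (Subobject.factors_of_factors_right π₂ (Subobject.factors_of_factors_right π₁ hy)), ?_⟩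
    rw [← e₂]
    simp only [Preadditive.comp_sub, Category.assoc]
    abel

lemma isBounded_zero (hK : ∀ n : ℤ, (K.XFil n).IsFinite) : K.IsBounded 0 := by
  intro n
  obtain ⟨⟨a, (ha : K.filX a n = ⊤)⟩, b, (hb : K.filX b n = ⊥)⟩ := hK n
  refine (Set.finite_Ico (a - 1) b).subset fun p hp => ?_
  by_contra hpn
  apply hp
  rw [SpSeq.FilCx.E, isZero_subquot_iff]
  simp only [Set.mem_Ico, not_and, not_lt] at hpn
  rcases le_or_gt b p with h | h
  · have h0 : K.filX p n = ⊥ := le_bot_iff.1 (hb ▸ K.filX_anti n h)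
    refine sup_le (inf_le_left.trans ?_) le_sup_right
    rw [h0]
    exact bot_le
  · have h1 : p + 1 ≤ a := by
      rcases le_or_gt (a - 1) p with h' | h'
      · have := hpn h'; omega
      · omega
    exact le_top.trans ((ha.ge.trans (K.filX_anti n h1)).trans le_sup_right)

end Groth.Agent.SpSeq40
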