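import Groth.Agent.SpSeq40.FilConv

/-!
# Pages of the spectral sequence of a filtered complex inside a weak Serre class
-/

set_option autoImplicit false
universe v u

open CategoryTheory CategoryTheory.Limits

namespace Groth.Agent.SpSeq40

variable {A : Type u} [Category.{v} A] [Abelian A]

/-- Closure properties derived from the five-term condition. -/
structure WSClosed (P : ObjectProperty A) : Prop where
  zero : ∀ X : A, IsZero X → P X
  iso : ∀ {X Y : A}, (X ≅ Y) → P X → P Y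
  ker : ∀ (S : ShortComplex A), S.Exact → Mono S.f → P S.X₂ → P S.X₃ → P S.X₁
  coker : ∀ (S : ShortComplex A), S.Exact → Epi S.g → P S.X₁ → P S.X₂ → P S.X₃
  ext : ∀ (S : ShortComplex A), S.ShortExact → P S.X₁ → P S.X₃ → P S.X₂

lemma mk4_exact {X₀ X₁ X₂ X₃ X₄ : A} (f₀ : X₀ ⟶ X₁) (f₁ : X₁ ⟶ X₂) (f₂ : X₂ ⟶ X₃)
    (f₃ : X₃ ⟶ X₄) (w₁ : f₀ ≫ f₁ = 0) (w₂ : f₁ ≫ f₂ = 0) (w₃ : f₂ ≫ f₃ = 0)
    (h₁ : (ShortComplex.mk f₀ f₁ w₁).Exact) (h₂ : (ShortComplex.mk f₁ f₂ w₂).Exact)
    (h₃ : (ShortComplex.mk f₂ f₃ w₃).Exact) : (ComposableArrows.mk₄ f₀ f₁ f₂ f₃).Exact :=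
  ComposableArrows.exact_of_δ₀ h₁.exact_toComposableArrows
    (ComposableArrows.exact_of_δ₀ h₂.exact_toComposableArrows h₃.exact_toComposableArrows)

lemma wsClosed_of_fiveTerm (P : ObjectProperty A) [P.IsClosedUnderIsomorphisms]
    (h0 : ∃ Z : A, IsZero Z ∧ P Z)
    (hP : ∀ S : ComposableArrows A 4, S.Exact → P (S.obj 0) → P (S.obj 1) → P (S.obj 3) →
      P (S.obj 4) → P (S.obj 2)) : WSClosed P := by
  obtain ⟨Z, hZ, hPZ⟩ := h0
  refine ⟨fun X hX => P.prop_of_iso (hZ.iso hX) hPZ, fun e h => P.prop_of_iso e h, ?_, ?_, ?_⟩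
  · intro S hS hm h2 h3
    exact hP _ (mk4_exact (0 : Z ⟶ Z) (0 : Z ⟶ S.X₁) S.f S.g (by simp) (by simp) S.zero
      (ShortComplex.exact_of_isZero_X₂ _ hZ) ((ShortComplex.exact_iff_mono _ rfl).2 hm) hS)
      hPZ hPZ h2 h3
  · intro S hS he h1 h2
    exact hP _ (mk4_exact S.f S.g (0 : S.X₃ ⟶ Z) (0 : Z ⟶ Z) S.zero (by simp) (by simp)
      hS ((ShortComplex.exact_iff_epi _ rfl).2 he) (ShortComplex.exact_of_isZero_X₂ _ hZ))
      h1 h2 hPZ hPZ
  · intro S hS h1 h3
    exact hP _ (mk4_exact (0 : Z ⟶ S.X₁) S.f S.g (0 : S.X₃ ⟶ Z) (by simp) S.zero (by simp)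
      ((ShortComplex.exact_iff_mono _ rfl).2 hS.mono_f) hS.exact
      ((ShortComplex.exact_iff_epi _ rfl).2 hS.epi_g)) hPZ h1 h3 hPZ

variable (K : SpSeq.FilCx A)

/-- `F^p ⊓ d⁻¹ F^(p+r)` in degree `n`. -/
noncomputable def W (r : ℕ) (p n : ℤ) : Subobject (K.obj.X n) :=
  K.filX p n ⊓ (Subobject.pullback (K.obj.d n (n + 1))).obj (K.filX (p + r) (n + 1))

/-- The kernel of `W → E_r`. -/
noncomputable def V (r : ℕ) (p n : ℤ) : Subobject (K.obj.X n) := W K r p n ⊓ K.BSub r p n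

lemma V_le (r : ℕ) (p n : ℤ) : V K r p n ≤ W K r p n := inf_le_left

/-- Another model of the term `E_r`. -/
noncomputable abbrev E' (r : ℕ) (p n : ℤ) : A := SpSeq.subquot _ _ (V_le K r p n)

lemma W_iff {r : ℕ} {p n : ℤ} {U : A} (x : U ⟶ K.obj.X n) : (W K r p n).Factors x ↔
    (K.filX p n).Factors x ∧ (K.filX (p + r) (n + 1)).Factors (x ≫ K.obj.d n (n + 1)) := by
  rw [W, Subobject.inf_factors, pullback_factors']

lemma nonempty_E'_iso (r : ℕ) (p n : ℤ) : Nonempty (E' K r p n ≅ K.E r p n) := by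
  let φ : E' K r p n ⟶ K.E r p n := sqMap (V_le K r p n) (𝟙 _) (K.BSub_le_ZSub r p n)
    (fun U x hx => by rw [Category.comp_id]; exact Subobject.factors_of_le x le_sup_left hx)
    (fun U x hx => by rw [Category.comp_id]; exact Subobject.factors_of_le x inf_le_right hx)
  haveI : IsIso φ := isIso_sqMap (V_le K r p n) (𝟙 _) (K.BSub_le_ZSub r p n) (Z' := K.ZSub r p n)
    (B' := K.BSub r p n)
    (fun U x hx => by rw [Category.comp_id]; exact Subobject.factors_of_le x le_sup_left hx)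
    (fun U x hx => by rw [Category.comp_id]; exact Subobject.factors_of_le x inf_le_right hx)
    (fun U x hx hB => (Subobject.inf_factors _).2 ⟨hx, by rwa [Category.comp_id] at hB⟩)
    (fun U y hy => by
      obtain ⟨U', π, hπ, a, b, ha, hb, e⟩ := (sup_factors_iff _ _ y).1 hy
      refine ⟨U', π, hπ, a, ha, ?_⟩
      rw [Category.comp_id, e, add_sub_cancel_left]
      exact Subobject.sup_factors_of_factors_right hb)
  exact ⟨asIso φ⟩

lemma bsub_of_d (r : ℕ) (p n i q : ℤ) (hi : i = n - 1) (hq : q = p - r + 1) {U : A}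
    (w : U ⟶ K.obj.X i) (hw : (K.filX q i).Factors w)
    (hp : (K.filX p n).Factors (w ≫ K.obj.d i n)) :
    (K.BSub r p n).Factors (w ≫ K.obj.d i n) := by
  subst hi hq
  exact Subobject.sup_factors_of_factors_left ((Subobject.inf_factors _).2
    ⟨hp, (image_arrow_factors_iff _ _ _).2 ⟨U, 𝟙 U, inferInstance, w, hw, by simp⟩⟩)

lemma bsub_cases {r : ℕ} {p n : ℤ} (i q : ℤ) (hi : i = n - 1) (hq : q = p - r + 1) {U : A}
    {x : U ⟶ K.obj.X n} (h : (K.BSub r p n).Factors x) :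
    ∃ (U' : A) (π : U' ⟶ U) (_ : Epi π) (w : U' ⟶ K.obj.X i) (y : U' ⟶ K.obj.X n),
      (K.filX q i).Factors w ∧ (K.filX p n).Factors (w ≫ K.obj.d i n) ∧
        (K.filX (p + 1) n).Factors y ∧ π ≫ x = w ≫ K.obj.d i n + y := by
  subst hi hq
  obtain ⟨U₁, π, hπ, a, y, ha, hy, e⟩ := (sup_factors_iff _ _ x).1 h
  rw [Subobject.inf_factors] at ha
  obtain ⟨U₂, π', hπ', w, hw, e'⟩ := (image_arrow_factors_iff _ _ _).1 ha.2
  refine ⟨U₂, π' ≫ π, inferInstance, w, π' ≫ y, hw,
    e' ▸ Subobject.factors_of_factors_right π' ha.1, Subobject.factors_of_factors_right π' hy, ?_⟩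
  rw [Category.assoc, e, Preadditive.comp_add, e']

lemma d_mem_W {r : ℕ} {p n p' n' : ℤ} (hp : p' = p + r) (hn : n' = n + 1) {U : A}
    {x : U ⟶ K.obj.X n} (hx : (W K r p n).Factors x) :
    (W K r p' n').Factors (x ≫ K.obj.d n n') := by
  subst hp hn
  refine (W_iff K _).2 ⟨((W_iff K x).1 hx).2, ?_⟩
  rw [Category.assoc, HomologicalComplex.d_comp_d, comp_zero]
  exact Subobject.factors_zero

lemma d_mem_V {r : ℕ} {p n p' n' : ℤ} (hp : p' = p + r) (hn : n' = n + 1) {U : A}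
    {x : U ⟶ K.obj.X n} (hx : (V K r p n).Factors x) :
    (V K r p' n').Factors (x ≫ K.obj.d n n') := by
  rw [V, Subobject.inf_factors] at hx ⊢
  refine ⟨d_mem_W K hp hn hx.1, ?_⟩
  obtain ⟨U', π, hπ, w, y, hw, hwd, hy, e⟩ := bsub_cases K (n - 1) _ rfl rfl hx.2
  have e2 : π ≫ x ≫ K.obj.d n n' = y ≫ K.obj.d n n' := by
    rw [← Category.assoc, e, Preadditive.add_comp, Category.assoc,
      HomologicalComplex.d_comp_d, comp_zero, zero_add]
  refine factors_of_epi_comp π ?_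
  rw [e2]
  refine bsub_of_d K r p' n' n (p + 1) (by omega) (by omega) y hy ?_
  rw [← e2]
  subst hp hn
  exact Subobject.factors_of_factors_right π ((W_iff K x).1 hx.1).2

/-- The differential `d_r`. -/
noncomputable def dd (r : ℕ) (p n p' n' : ℤ) (hp : p' = p + r) (hn : n' = n + 1) :
    E' K r p n ⟶ E' K r p' n' :=
  sqMap (V_le K r p n) (K.obj.d n n') (V_le K r p' n')
    (fun _ _ => d_mem_W K hp hn) (fun _ _ => d_mem_V K hp hn)

/-- The cycles of `d_r`. -/
noncomputable def Y (r : ℕ) (p n : ℤ) : Subobject (K.obj.X n) :=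
  W K r p n ⊓ K.ZSub (r + 1) p n

lemma zsub_succ_le_cases {r : ℕ} {p n : ℤ} {U : A} {x : U ⟶ K.obj.X n}
    (h : (K.ZSub (r + 1) p n).Factors x) :
    ∃ (U' : A) (π : U' ⟶ U) (_ : Epi π) (a b : U' ⟶ K.obj.X n), (K.filX p n).Factors a ∧
      (K.filX (p + r + 1) (n + 1)).Factors (a ≫ K.obj.d n (n + 1)) ∧
        (K.filX (p + 1) n).Factors b ∧ π ≫ x = a + b := by
  obtain ⟨U', π, hπ, a, b, ha, hb, e⟩ := (sup_factors_iff _ _ x).1 h
  rw [Subobject.inf_factors, pullback_factors'] at ha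
  refine ⟨U', π, hπ, a, b, ha.1, ?_, hb, e⟩
  simpa [add_assoc] using ha.2

lemma bsub_le_zsub_succ (r : ℕ) (p n : ℤ) : K.BSub r p n ≤ K.ZSub (r + 1) p n :=
  sup_le_sup_right (inf_le_inf_left _ (K.image_d_le_pullback n _ _)) _

lemma V_le_Y (r : ℕ) (p n : ℤ) : V K r p n ≤ Y K r p n :=
  le_inf (V_le K r p n) (inf_le_right.trans (bsub_le_zsub_succ K r p n))

lemma bsub_le_succ (r : ℕ) (p n : ℤ) : K.BSub r p n ≤ K.BSub (r + 1) p n := by
  refine le_of_forall fun U x hx => ?_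
  obtain ⟨U', π, hπ, w, y, hw, hwd, hy, e⟩ := bsub_cases K (n - 1) _ rfl rfl hx
  refine factors_of_epi_comp π ?_
  rw [e]
  exact Subobject.factors_add _ _ (bsub_of_d K (r + 1) p n (n - 1) (p - r) rfl
    (by push_cast; ring) w (filX_le K _ (by omega) hw) hwd)
    (Subobject.sup_factors_of_factors_right hy)

/-- Cycles of `d_r` in `E_r`. -/
noncomputable def ιY (r : ℕ) (p n : ℤ) : SpSeq.subquot _ _ (V_le_Y K r p n) ⟶ E' K r p n :=
  sqMap (V_le_Y K r p n) (𝟙 _) (V_le K r p n)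
    (fun U x hx => by rw [Category.comp_id]; exact Subobject.factors_of_le x inf_le_left hx)
    (fun U x hx => by rwa [Category.comp_id])

/-- The projection to `E_(r+1)`. -/
noncomputable def πY (r : ℕ) (p n : ℤ) :
    SpSeq.subquot _ _ (V_le_Y K r p n) ⟶
      SpSeq.subquot _ _ (K.BSub_le_ZSub (r + 1) p n) :=
  sqMap (V_le_Y K r p n) (𝟙 _) (K.BSub_le_ZSub (r + 1) p n)
    (fun U x hx => by rw [Category.comp_id]; exact Subobject.factors_of_le x inf_le_right hx)
    (fun U x hx => by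
      rw [Category.comp_id]
      exact Subobject.factors_of_le x (inf_le_right.trans (bsub_le_succ K r p n)) hx)

lemma d_mem_Y {r : ℕ} {p n p' n' : ℤ} (hp : p' = p + r) (hn : n' = n + 1) {U : A}
    {x : U ⟶ K.obj.X n} (hx : (W K r p n).Factors x) :
    (Y K r p' n').Factors (x ≫ K.obj.d n n') := by
  refine (Subobject.inf_factors _).2 ⟨d_mem_W K hp hn hx,
    Subobject.sup_factors_of_factors_left ((Subobject.inf_factors _).2
      ⟨?_, (pullback_factors' _ _ _).2 ?_⟩)⟩
  · subst hp hn; exact ((W_iff K x).1 hx).2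
  · rw [Category.assoc, HomologicalComplex.d_comp_d, comp_zero]
    exact Subobject.factors_zero

/-- The boundaries of `d_r`. -/
noncomputable def jY (r : ℕ) (p n p' n' : ℤ) (hp : p' = p + r) (hn : n' = n + 1) :
    E' K r p n ⟶ SpSeq.subquot _ _ (V_le_Y K r p' n') :=
  sqMap (V_le K r p n) (K.obj.d n n') (V_le_Y K r p' n')
    (fun _ _ => d_mem_Y K hp hn) (fun _ _ => d_mem_V K hp hn)

lemma exists_kernel_seq (r : ℕ) (p n : ℤ) :
    ∃ (w : ιY K r p n ≫ dd K r p n (p + r) (n + 1) rfl rfl = 0),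
      (ShortComplex.mk _ _ w).Exact ∧ Mono (ιY K r p n) := by
  have w : ιY K r p n ≫ dd K r p n (p + r) (n + 1) rfl rfl = 0 := by
    rw [← cancel_epi (sqπ _ _ (V_le_Y K r p n)), comp_zero, ιY, sqπ_sqMap_assoc, dd, sqπ_sqMap,
      ← Category.assoc, sqπ_eq_zero_iff]
    simp only [Category.assoc, Subobject.factorThru_arrow, Subobject.factorThru_arrow_assoc,
      Category.comp_id, Category.id_comp]
    have hy : (Y K r p n).Factors (Y K r p n).arrow := Subobject.factors_self _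
    rw [Y, Subobject.inf_factors] at hy
    obtain ⟨hW, hZ⟩ := hy
    rw [V, Subobject.inf_factors]
    refine ⟨d_mem_W K rfl rfl hW, ?_⟩
    obtain ⟨U', π, hπ, a, b, ha, had, hb, e⟩ := zsub_succ_le_cases K hZ
    refine factors_of_epi_comp π ?_
    have e2 : π ≫ (Y K r p n).arrow ≫ K.obj.d n (n + 1) =
        a ≫ K.obj.d n (n + 1) + b ≫ K.obj.d n (n + 1) := by
      rw [← Category.assoc, ← Preadditive.add_comp]
      exact e =≫ _
    have hbd : (K.filX (p + r) (n + 1)).Factors (b ≫ K.obj.d n (n + 1)) := by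
      rw [← add_sub_cancel_left (a ≫ K.obj.d n (n + 1)) (b ≫ _), ← e2]
      exact factors_sub (Subobject.factors_of_factors_right π ((W_iff K _).1 hW).2)
        (filX_le K _ (by omega) had)
    exact e2 ▸ Subobject.factors_add _ _ (Subobject.sup_factors_of_factors_right had)
      (bsub_of_d K r _ _ n (p + 1) (by omega) (by omega) b hb hbd)
  haveI hm : Mono (ιY K r p n) := mono_sqMap _ _ _ _ _ fun U x _ hx => by
    rwa [Category.comp_id] at hx
  refine ⟨w, ?_, hm⟩
  rw [ShortComplex.exact_iff_exact_up_to_refinements]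
  intro U g hg
  change U ⟶ E' K r p n at g
  change g ≫ dd K r p n (p + r) (n + 1) rfl rfl = 0 at hg
  obtain ⟨U₁, π₁, hπ₁, t, ht⟩ := surjective_up_to_refinements_of_epi (sqπ _ _ (V_le K r p n)) g
  have hd : (K.BSub r (p + r) (n + 1)).Factors ((t ≫ (W K r p n).arrow) ≫ K.obj.d n (n + 1)) := by
    have h1 : t ≫ sqπ _ _ (V_le K r p n) ≫ dd K r p n (p + r) (n + 1) rfl rfl = 0 := by
      rw [← Category.assoc, ← ht, Category.assoc, hg, comp_zero]
    rw [dd, sqπ_sqMap, ← Category.assoc, sqπ_eq_zero_iff] at h1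
    simp only [V, Subobject.inf_factors, Category.assoc, Subobject.factorThru_arrow] at h1
    rw [Category.assoc]
    exact h1.2
  set x := t ≫ (W K r p n).arrow with hx
  have hxW : (W K r p n).Factors x := Subobject.factors_comp_arrow _
  obtain ⟨U₂, π₂, hπ₂, v, y, hv, hvd, hy, e⟩ :=
    bsub_cases K n (p + 1) (by omega) (by omega) hd
  have hxY : (Y K r p n).Factors (π₂ ≫ x) := by
    refine (Subobject.inf_factors _).2 ⟨Subobject.factors_of_factors_right π₂ hxW, ?_⟩
    rw [← sub_add_cancel (π₂ ≫ x) v]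
    refine sup_factors_add ((Subobject.inf_factors _).2 ⟨factors_sub
      (Subobject.factors_of_factors_right π₂ ((W_iff K x).1 hxW).1)
      (filX_le K n (Int.le_add_one le_rfl) hv), (pullback_factors' _ _ _).2 ?_⟩) hv
    rw [Preadditive.sub_comp, Category.assoc, e, add_sub_cancel_left]
    simpa [add_assoc] using hy
  refine ⟨U₂, π₂ ≫ π₁, inferInstance, (Y K r p n).factorThru _ hxY ≫ sqπ _ _ (V_le_Y K r p n), ?_⟩
  change (π₂ ≫ π₁) ≫ g = (_ ≫ _) ≫ ιY K r p n
  rw [Category.assoc, ht, Category.assoc (Subobject.factorThru _ _ _), ιY, sqπ_sqMap,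
    ← Category.assoc π₂ t, ← Category.assoc (Subobject.factorThru _ _ _), ← sub_eq_zero,
    ← Preadditive.sub_comp, sqπ_eq_zero_iff, Preadditive.sub_comp, Category.assoc, ← hx,
    Category.assoc, Subobject.factorThru_arrow, Subobject.factorThru_arrow_assoc, Category.comp_id,
    sub_self]
  exact Subobject.factors_zero

lemma exists_coker_seq (r : ℕ) (p n : ℤ) :
    ∃ (w : jY K r (p - r) (n - 1) p n (by omega) (by omega) ≫ πY K r p n = 0),
      (ShortComplex.mk _ _ w).Exact ∧ Epi (πY K r p n) := by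
  have w : jY K r (p - r) (n - 1) p n (by omega) (by omega) ≫ πY K r p n = 0 := by
    rw [← cancel_epi (sqπ _ _ (V_le K r (p - r) (n - 1))), comp_zero, jY, sqπ_sqMap_assoc, πY,
      sqπ_sqMap, ← Category.assoc, sqπ_eq_zero_iff]
    simp only [Category.assoc, Subobject.factorThru_arrow, Subobject.factorThru_arrow_assoc,
      Category.comp_id, Category.id_comp]
    have hW : (W K r (p - r) (n - 1)).Factors (W K r (p - r) (n - 1)).arrow :=
      Subobject.factors_self _
    refine bsub_of_d K (r + 1) p n (n - 1) (p - r) rfl (by push_cast; ring) _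
      ((W_iff K _).1 hW).1 ((W_iff K _).1 (d_mem_W K (p' := p) (n' := n) (by omega) (by omega) hW)).1
  haveI he : Epi (πY K r p n) := by
    refine epi_sqMap _ _ _ _ _ fun U y hy => ?_
    obtain ⟨U', π, hπ, a, b, ha, had, hb, e⟩ := zsub_succ_le_cases K hy
    refine ⟨U', π, hπ, a, (Subobject.inf_factors _).2 ⟨(W_iff K a).2
      ⟨ha, filX_le K _ (by omega) had⟩, Subobject.sup_factors_of_factors_left
        ((Subobject.inf_factors _).2 ⟨ha, (pullback_factors' _ _ _).2 ?_⟩)⟩, ?_⟩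
    · simpa [add_assoc] using had
    · rw [Category.comp_id, e, add_sub_cancel_left]
      exact Subobject.sup_factors_of_factors_right hb
  refine ⟨w, ?_, he⟩
  rw [ShortComplex.exact_iff_exact_up_to_refinements]
  intro U g hg
  change U ⟶ SpSeq.subquot _ _ (V_le_Y K r p n) at g
  change g ≫ πY K r p n = 0 at hg
  obtain ⟨U₁, π₁, hπ₁, t, ht⟩ := surjective_up_to_refinements_of_epi (sqπ _ _ (V_le_Y K r p n)) g
  have hxB : (K.BSub (r + 1) p n).Factors (t ≫ (Y K r p n).arrow) := by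
    have h1 : t ≫ sqπ _ _ (V_le_Y K r p n) ≫ πY K r p n = 0 := by
      rw [← Category.assoc, ← ht, Category.assoc, hg, comp_zero]
    rw [πY, sqπ_sqMap, ← Category.assoc, sqπ_eq_zero_iff] at h1
    simpa using h1
  set x := t ≫ (Y K r p n).arrow with hx
  have hxY : (W K r p n).Factors x :=
    Subobject.factors_of_le _ inf_le_left (Subobject.factors_comp_arrow _)
  obtain ⟨U₂, π₂, hπ₂, v, y, hv, hvd, hy, e⟩ :=
    bsub_cases K (n - 1) (p - r) rfl (by push_cast; ring) hxB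
  have hvW : (W K r (p - r) (n - 1)).Factors v := by
    refine (W_iff K v).2 ⟨hv, ?_⟩
    rwa [sub_add_cancel, sub_add_cancel]
  have hyV : (V K r p n).Factors y := by
    rw [V, Subobject.inf_factors]
    refine ⟨?_, Subobject.sup_factors_of_factors_right hy⟩
    rw [← add_sub_cancel_left (v ≫ K.obj.d (n - 1) n) y, ← e]
    exact factors_sub (Subobject.factors_of_factors_right π₂ hxY)
      (d_mem_W K (by omega) (by omega) hvW)
  refine ⟨U₂, π₂ ≫ π₁, inferInstance,
    (W K r (p - r) (n - 1)).factorThru v hvW ≫ sqπ _ _ (V_le K r (p - r) (n - 1)), ?_⟩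
  change (π₂ ≫ π₁) ≫ g = (_ ≫ _) ≫ jY K r (p - r) (n - 1) p n (by omega) (by omega)
  rw [Category.assoc, ht, Category.assoc (Subobject.factorThru _ _ _), jY, sqπ_sqMap,
    ← Category.assoc π₂ t, ← Category.assoc (Subobject.factorThru _ _ _), ← sub_eq_zero,
    ← Preadditive.sub_comp, sqπ_eq_zero_iff, Preadditive.sub_comp, Category.assoc, ← hx,
    Category.assoc, Subobject.factorThru_arrow, Subobject.factorThru_arrow_assoc, e,
    add_sub_cancel_left]
  exact hyV

lemma prop_E_succ {P : ObjectProperty A} (hP : WSClosed P) (r : ℕ)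
    (h : ∀ p n : ℤ, P (K.E r p n)) (p n : ℤ) : P (K.E (r + 1) p n) := by
  have h' : ∀ p n : ℤ, P (E' K r p n) := fun p n => by
    obtain ⟨e⟩ := nonempty_E'_iso K r p n
    exact hP.iso e.symm (h p n)
  obtain ⟨w, hw, hm⟩ := exists_kernel_seq K r p n
  obtain ⟨w', hw', he⟩ := exists_coker_seq K r p n
  exact hP.coker _ hw' he (h' _ _) (hP.ker _ hw hm (h' _ _) (h' _ _))

lemma prop_E_add {P : ObjectProperty A} (hP : WSClosed P) (r : ℕ)
    (h : ∀ p n : ℤ, P (K.E r p n)) (k : ℕ) : ∀ p n : ℤ, P (K.E (r + k) p n) := by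
  induction k with
  | zero => exact h
  | succ k ih => exact prop_E_succ K hP (r + k) ih

lemma bbot_le_ztop (p n : ℤ) : K.BBot p n ≤ K.ZTop p n :=
  sup_le_sup_right (inf_le_inf_left _ (le_kernelSubobject _ _
    (imageSubobject_arrow_comp_eq_zero (by simp)))) _

lemma prop_gr {P : ObjectProperty A} (hP : WSClosed P) (hK : Good K) (r : ℕ)
    (h : ∀ p n : ℤ, P (K.E r p n)) (p n : ℤ) : P ((K.HFil n).gr p) := by
  obtain ⟨r₀, hr₀⟩ := exists_stationary hK p n
  have hE : ∀ (Z B : Subobject (K.obj.X n)) (hBZ : B ≤ Z), Z = K.ZTop p n → B = K.BBot p n →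
      P (SpSeq.subquot Z B hBZ) → P (SpSeq.subquot _ _ (bbot_le_ztop K p n)) := by
    rintro _ _ _ rfl rfl h'
    exact h'
  have hPE : P (SpSeq.subquot _ _ (bbot_le_ztop K p n)) :=
    hE _ _ _ (hr₀ (r + r₀) (by omega)).1 (hr₀ (r + r₀) (by omega)).2 (prop_E_add K hP r h r₀ p n)
  let Z0 : Subobject (K.obj.cycles n) := (Subobject.pullback (K.obj.iCycles n)).obj (K.filX p n)
  let B0 : Subobject (K.obj.cycles n) :=
    Z0 ⊓ (Subobject.pullback (K.obj.iCycles n)).obj (K.BBot p n)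
  have h0 : B0 ≤ Z0 := inf_le_left
  have hcls : ∀ ⦃U : A⦄ (t : U ⟶ K.obj.cycles n) (hd),
      hc K.obj n (t ≫ K.obj.iCycles n) hd = t ≫ K.obj.homologyπ n := by
    intro U t hd
    rw [hc]
    congr 1
    rw [← cancel_mono (K.obj.iCycles n), HomologicalComplex.liftCycles_i]
  have hZ1 : ∀ ⦃U : A⦄ (x : U ⟶ K.obj.cycles n), Z0.Factors x →
      (K.ZTop p n).Factors (x ≫ K.obj.iCycles n) :=
    fun U x hx => Subobject.sup_factors_of_factors_left ((Subobject.inf_factors _).2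
      ⟨(pullback_factors' _ _ x).1 hx, (kernel_factors' _ _).2 (by simp)⟩)
  have hB1 : ∀ ⦃U : A⦄ (x : U ⟶ K.obj.cycles n), B0.Factors x →
      (K.BBot p n).Factors (x ≫ K.obj.iCycles n) :=
    fun U x hx => (pullback_factors' _ _ x).1 ((Subobject.inf_factors _).1 hx).2
  haveI hi1 : IsIso (sqMap h0 (K.obj.iCycles n) (bbot_le_ztop K p n) hZ1 hB1) := isIso_sqMap _ _ _ _ _
    (fun U x hx hB => (Subobject.inf_factors _).2 ⟨hx, (pullback_factors' _ _ x).2 hB⟩)
    (fun U y hy => by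
      obtain ⟨U', π, hπ, a, b, ha, hb, e⟩ := (sup_factors_iff _ _ y).1 hy
      rw [Subobject.inf_factors, kernel_factors'] at ha
      refine ⟨U', π, hπ, K.obj.liftCycles a (n + 1) (by simp) ha.2, ?_, ?_⟩
      · rw [pullback_factors', HomologicalComplex.liftCycles_i]; exact ha.1
      · rw [HomologicalComplex.liftCycles_i, e, add_sub_cancel_left]
        exact Subobject.sup_factors_of_factors_right hb)
  have hcyc : ∀ ⦃U : A⦄ (t : U ⟶ K.obj.cycles n),
      (t ≫ K.obj.iCycles n) ≫ K.obj.d n (n + 1) = 0 := fun U t => by simp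
  have hZ2 : ∀ ⦃U : A⦄ (t : U ⟶ K.obj.cycles n), Z0.Factors t →
      (K.filH p n).Factors (t ≫ K.obj.homologyπ n) :=
    fun U t ht => (filH_factors_iff K p n _).2 ⟨U, 𝟙 U, inferInstance, t ≫ K.obj.iCycles n,
      hcyc t, (pullback_factors' _ _ t).1 ht, by rw [Category.id_comp, hcls]⟩
  have hB2 : ∀ ⦃U : A⦄ (t : U ⟶ K.obj.cycles n), B0.Factors t →
      (K.filH (p + 1) n).Factors (t ≫ K.obj.homologyπ n) :=
    fun U t ht => by
      obtain ⟨U', π, hπ, a, b, ha, hb, e⟩ := (sup_factors_iff _ _ _).1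
        ((pullback_factors' _ _ t).1 ((Subobject.inf_factors _).1 ht).2)
      obtain ⟨U'', π', hπ', v, e'⟩ := (image_factors_iff _ _).1 ((Subobject.inf_factors _).1 ha).2
      have hb' : π' ≫ b = π' ≫ π ≫ (t ≫ K.obj.iCycles n) - v ≫ K.obj.d (n - 1) n := by
        rw [e, Preadditive.comp_add, e', add_sub_cancel_left]
      have hbd : (π' ≫ b) ≫ K.obj.d n (n + 1) = 0 := by rw [hb']; simp
      refine (filH_factors_iff K (p + 1) n _).2 ⟨U'', π' ≫ π, inferInstance, π' ≫ b, hbd,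
        Subobject.factors_of_factors_right π' hb, ?_⟩
      rw [← hcls t (hcyc t), comp_hc, hc_eq_iff]
      exact ⟨U'', 𝟙 _, inferInstance, v, by simp [hb']⟩
  have h'' : K.filH (p + 1) n ≤ K.filH p n := K.filH_anti n (Int.le_add_one le_rfl)
  haveI hi2 : IsIso (sqMap h0 (K.obj.homologyπ n) h''
      hZ2 hB2) := isIso_sqMap _ _ _ _ _
    (fun U t ht hB => (Subobject.inf_factors _).2 ⟨ht, (pullback_factors' _ _ t).2 (by
      obtain ⟨U', π, hπ, y, hd, hy, e⟩ := (filH_factors_iff K (p + 1) n _).1 hB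
      rw [← hcls t (hcyc t), comp_hc, hc_eq_iff] at e
      obtain ⟨U'', π', hπ', v, e'⟩ := e
      refine factors_of_epi_comp (π' ≫ π) ?_
      have hy' := Subobject.factors_of_factors_right π' hy
      have htp := Subobject.factors_of_factors_right (π' ≫ π) ((pullback_factors' _ _ t).1 ht)
      rw [Category.assoc] at htp ⊢
      rw [e', add_comm]
      refine sup_factors_add ((Subobject.inf_factors _).2 ⟨?_, image_factors_comp _ _⟩) hy'
      rw [← add_sub_cancel_left (π' ≫ y) (v ≫ K.obj.d (n - 1) n), ← e']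
      exact factors_sub htp (filX_le K n (Int.le_add_one le_rfl) hy'))⟩)
    (fun U γ hγ => by
      obtain ⟨U', π, hπ, y, hd, hy, e⟩ := (filH_factors_iff K p n γ).1 hγ
      refine ⟨U', π, hπ, K.obj.liftCycles y (n + 1) (by simp) hd, ?_, ?_⟩
      · rw [pullback_factors', HomologicalComplex.liftCycles_i]; exact hy
      · rw [e, hc, sub_self]; exact Subobject.factors_zero)
  exact hP.iso ((asIso (sqMap h0 (K.obj.iCycles n) (bbot_le_ztop K p n) hZ1 hB1)).symm ≪≫
    @asIso _ _ _ _ (sqMap h0 (K.obj.homologyπ n) h'' hZ2 hB2) hi2) hPE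

lemma prop_homology {P : ObjectProperty A} (hP : WSClosed P) (hK : Good K) (r : ℕ)
    (h : ∀ p n : ℤ, P (K.E r p n)) (n : ℤ) : P (K.obj.homology n) := by
  obtain ⟨⟨a, ha⟩, ⟨b, hb⟩⟩ := hfil_isFinite hK n
  have key : ∀ k : ℕ, P (((K.HFil n).fil (b - k) : Subobject _) : A) := by
    intro k
    induction k with
    | zero =>
      rw [Nat.cast_zero, sub_zero, hb]
      refine hP.zero _ ?_
      rw [IsZero.iff_id_eq_zero, ← cancel_mono (⊥ : Subobject (K.HFil n).obj).arrow]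
      simp [Subobject.bot_arrow]
    | succ k ih =>
      set q := b - ((k + 1 : ℕ) : ℤ) with hq
      have e : b - (k : ℤ) = q + 1 := by omega
      rw [e] at ih
      let S : ShortComplex A := ShortComplex.mk
        (((K.HFil n).fil (q + 1)).ofLE _ ((K.HFil n).anti (Int.le_add_one le_rfl)))
        (cokernel.π _) (cokernel.condition _)
      haveI : Mono S.f := by dsimp [S]; infer_instance
      haveI : Epi S.g := by dsimp [S]; infer_instance
      exact hP.ext S { exact := S.exact_of_g_is_cokernel (cokernelIsCokernel _) } ih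
        (prop_gr K hP hK r h q n)
  have htop : K.filH (b - (b - a).toNat) n = ⊤ := by
    refine top_le_iff.1 ((ha : K.filH a n = ⊤) ▸ K.filH_anti n ?_)
    omega
  haveI : IsIso (K.filH (b - (b - a).toNat) n).arrow :=
    (Subobject.isIso_arrow_iff_eq_top _).2 htop
  exact hP.iso (asIso (K.filH (b - (b - a).toNat) n).arrow) (key _)

end Groth.Agent.SpSeq40
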