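import Mathlib.CategoryTheory.Abelian.CommSq
import Groth.Agent.SpSeq40.Elt

/-!
# Strict morphisms of filtered objects, pushouts and fibre products
-/

set_option autoImplicit false
universe v u

open CategoryTheory CategoryTheory.Limits

namespace Groth.Agent.SpSeq40

variable {A : Type u} [Category.{v} A] [Abelian A] {K L M : SpSeq.FilObj A}

lemma fil_map (f : K ⟶ L) (p : ℤ) {U : A} {x : U ⟶ K.obj} (hx : (K.fil p).Factors x) :
    (L.fil p).Factors (x ≫ f.hom) :=
  (pullback_factors' f.hom (L.fil p) x).1 (Subobject.factors_of_le x (f.compat p) hx)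

lemma fil_comp (f : K ⟶ L) (g : L ⟶ M) : (f ≫ g).hom = f.hom ≫ g.hom := rfl

lemma isStrict_iff (f : K ⟶ L) : SpSeq.FilObj.IsStrict f ↔
    ∀ (p : ℤ) {U : A} (x : U ⟶ K.obj), (L.fil p).Factors (x ≫ f.hom) →
      ∃ (U' : A) (π : U' ⟶ U) (_ : Epi π) (x' : U' ⟶ K.obj),
        (K.fil p).Factors x' ∧ π ≫ x ≫ f.hom = x' ≫ f.hom := by
  constructor
  · intro h p U x hx
    have : (imageSubobject f.hom ⊓ L.fil p).Factors (x ≫ f.hom) :=
      (Subobject.inf_factors _).2 ⟨image_factors_comp _ _, hx⟩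
    rw [← h p] at this
    exact (image_arrow_factors_iff _ _ _).1 this
  · intro h p
    refine eq_of_forall fun U y => ⟨fun hy => ?_, fun hy => ?_⟩
    · obtain ⟨U', π, hπ, x, hx, e⟩ := (image_arrow_factors_iff _ _ _).1 hy
      refine factors_of_epi_comp π ?_
      rw [e]
      exact (Subobject.inf_factors _).2 ⟨image_factors_comp _ _, fil_map f p hx⟩
    · obtain ⟨hi, hp⟩ := (Subobject.inf_factors _).1 hy
      obtain ⟨U', π, hπ, x, e⟩ := (image_factors_iff _ _).1 hi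
      obtain ⟨U'', π', hπ', x', hx', e'⟩ := h p x (e ▸ (L.fil p).factors_of_factors_right π hp)
      refine factors_of_epi_comp (π' ≫ π) ?_
      rw [Category.assoc, e, e']
      exact (image_arrow_factors_iff _ _ _).2
        ⟨U'', 𝟙 _, inferInstance, x', hx', by simp⟩

lemma isStrict_comp_of_mono (f : K ⟶ L) (g : L ⟶ M) (hf : SpSeq.FilObj.IsStrict f)
    (hg : SpSeq.FilObj.IsStrict g) [Mono g.hom] : SpSeq.FilObj.IsStrict (f ≫ g) := by
  rw [isStrict_iff] at hf hg ⊢
  intro p U x hx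
  rw [fil_comp, ← Category.assoc] at hx
  obtain ⟨U', π, hπ, l, hl, e⟩ := hg p _ hx
  rw [← Category.assoc π, cancel_mono] at e
  have hxf : (L.fil p).Factors ((π ≫ x) ≫ f.hom) := by rwa [Category.assoc, e]
  obtain ⟨U'', π', hπ', k, hk, e'⟩ := hf p _ hxf
  refine ⟨U'', π' ≫ π, inferInstance, k, hk, ?_⟩
  rw [fil_comp]
  simpa using e' =≫ g.hom

lemma isStrict_comp_of_epi (f : K ⟶ L) (g : L ⟶ M) (hf : SpSeq.FilObj.IsStrict f)
    (hg : SpSeq.FilObj.IsStrict g) [Epi f.hom] : SpSeq.FilObj.IsStrict (f ≫ g) := by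
  rw [isStrict_iff] at hf hg ⊢
  intro p U x hx
  rw [fil_comp, ← Category.assoc] at hx
  obtain ⟨U', π, hπ, l, hl, e⟩ := hg p _ hx
  obtain ⟨U'', π', hπ', k, e'⟩ := surjective_up_to_refinements_of_epi f.hom l
  have hkf : (L.fil p).Factors (k ≫ f.hom) := e' ▸ (L.fil p).factors_of_factors_right π' hl
  obtain ⟨U₃, π'', hπ'', k', hk', e''⟩ := hf p k hkf
  refine ⟨U₃, π'' ≫ π' ≫ π, inferInstance, k', hk', ?_⟩
  rw [fil_comp]
  calc (π'' ≫ π' ≫ π) ≫ x ≫ f.hom ≫ g.hom
      = π'' ≫ π' ≫ π ≫ (x ≫ f.hom) ≫ g.hom := by simp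
    _ = π'' ≫ (π' ≫ l) ≫ g.hom := by rw [e]; simp
    _ = (π'' ≫ k ≫ f.hom) ≫ g.hom := by rw [e']; simp
    _ = k' ≫ f.hom ≫ g.hom := by rw [e'']; simp

lemma mono_hom_of_isIso (f : K ⟶ L) [IsIso f] : Mono f.hom :=
  inferInstanceAs (Mono (SpSeq.FilObj.forget.map f))

lemma isStrict_of_isIso (f : K ⟶ L) [IsIso f] : SpSeq.FilObj.IsStrict f := by
  rw [isStrict_iff]
  intro p U x hx
  have e : f.hom ≫ (inv f).hom = 𝟙 K.obj := congrArg SpSeq.FilObj.Hom.hom (IsIso.hom_inv_id f)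
  refine ⟨U, 𝟙 U, inferInstance, x, ?_, by simp⟩
  have := fil_map (inv f) p hx
  rwa [Category.assoc, e, Category.comp_id] at this

/-- Two generalised elements with the same image in a pushout come from the corner. -/
lemma pushout_rel {X₁ X₂ X₃ X₄ : A} {t : X₁ ⟶ X₂} {l : X₁ ⟶ X₃} {r : X₂ ⟶ X₄} {b : X₃ ⟶ X₄}
    (h : IsPushout t l r b) {U : A} (x : U ⟶ X₂) (y : U ⟶ X₃) (w : x ≫ r = y ≫ b) :
    ∃ (U' : A) (π : U' ⟶ U) (_ : Epi π) (k : U' ⟶ X₁), π ≫ x = k ≫ t ∧ π ≫ y = k ≫ l := by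
  have h0 : biprod.lift x (-y) ≫ h.shortComplex.g = 0 := by
    change biprod.lift x (-y) ≫ biprod.desc r b = 0
    rw [biprod.lift_desc, w, Preadditive.neg_comp, add_neg_cancel]
  have hex : (ShortComplex.mk (biprod.lift t (-l)) (biprod.desc r b)
      (by simp [h.w])).Exact := h.exact_shortComplex
  obtain ⟨U', π, hπ, (k : U' ⟶ X₁), ek⟩ := hex.exact_up_to_refinements _ h0
  change π ≫ biprod.lift x (-y) = k ≫ biprod.lift t (-l) at ek
  refine ⟨U', π, hπ, k, by simpa using ek =≫ biprod.fst, ?_⟩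
  have h2 : π ≫ (-y) = k ≫ (-l) := by simpa using ek =≫ biprod.snd
  rw [Preadditive.comp_neg, Preadditive.comp_neg, neg_inj] at h2
  exact h2

/-! ### Pushouts -/

section Pushout

variable (f : K ⟶ L) (g : K ⟶ M)

/-- The pushout filtration. -/
noncomputable def pushFil (p : ℤ) : Subobject (pushout f.hom g.hom) :=
  imageSubobject ((L.fil p).arrow ≫ pushout.inl f.hom g.hom) ⊔
    imageSubobject ((M.fil p).arrow ≫ pushout.inr f.hom g.hom)

lemma pushFil_anti : Antitone (pushFil f g) := by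
  intro p q hpq
  refine sup_le_sup ?_ ?_
  · exact le_of_forall fun U y hy => by
      obtain ⟨U', π, hπ, x, hx, e⟩ := (image_arrow_factors_iff _ _ _).1 hy
      exact (image_arrow_factors_iff _ _ _).2
        ⟨U', π, hπ, x, Subobject.factors_of_le x (L.anti hpq) hx, e⟩
  · exact le_of_forall fun U y hy => by
      obtain ⟨U', π, hπ, x, hx, e⟩ := (image_arrow_factors_iff _ _ _).1 hy
      exact (image_arrow_factors_iff _ _ _).2
        ⟨U', π, hπ, x, Subobject.factors_of_le x (M.anti hpq) hx, e⟩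

/-- The pushout of filtered objects. -/
noncomputable abbrev pushObj : SpSeq.FilObj A := ⟨pushout f.hom g.hom, pushFil f g, pushFil_anti f g⟩

/-- The left inclusion. -/
noncomputable abbrev pushInl : L ⟶ pushObj f g :=
  ⟨pushout.inl f.hom g.hom, fun p => le_of_forall fun U x hx => (pullback_factors' _ _ x).2
    (Subobject.sup_factors_of_factors_left
      ((image_arrow_factors_iff _ _ _).2 ⟨U, 𝟙 U, inferInstance, x, hx, by simp⟩))⟩

/-- The right inclusion. -/
noncomputable abbrev pushInr : M ⟶ pushObj f g :=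
  ⟨pushout.inr f.hom g.hom, fun p => le_of_forall fun U x hx => (pullback_factors' _ _ x).2
    (Subobject.sup_factors_of_factors_right
      ((image_arrow_factors_iff _ _ _).2 ⟨U, 𝟙 U, inferInstance, x, hx, by simp⟩))⟩

lemma pushout_condition' : f ≫ pushInl f g = g ≫ pushInr f g :=
  SpSeq.FilObj.Hom.ext pushout.condition

lemma isPushout_pushObj : IsPushout f g (pushInl f g) (pushInr f g) := by
  refine ⟨⟨pushout_condition' f g⟩, ⟨PushoutCocone.IsColimit.mk _
    (fun s => ⟨pushout.desc s.inl.hom s.inr.hom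
      (congrArg SpSeq.FilObj.Hom.hom s.condition), fun p => ?_⟩)
    (fun s => SpSeq.FilObj.Hom.ext (pushout.inl_desc _ _ _))
    (fun s => SpSeq.FilObj.Hom.ext (pushout.inr_desc _ _ _))
    (fun s m h1 h2 => SpSeq.FilObj.Hom.ext (pushout.hom_ext ?_ ?_))⟩⟩
  · refine sup_le ?_ ?_
    · refine le_of_forall fun U y hy => (pullback_factors' _ _ y).2 ?_
      obtain ⟨U', π, hπ, x, hx, e⟩ := (image_arrow_factors_iff _ _ _).1 hy
      refine factors_of_epi_comp π ?_
      rw [← Category.assoc, e, Category.assoc, pushout.inl_desc]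
      exact fil_map s.inl p hx
    · refine le_of_forall fun U y hy => (pullback_factors' _ _ y).2 ?_
      obtain ⟨U', π, hπ, x, hx, e⟩ := (image_arrow_factors_iff _ _ _).1 hy
      refine factors_of_epi_comp π ?_
      rw [← Category.assoc, e, Category.assoc, pushout.inr_desc]
      exact fil_map s.inr p hx
  · exact (congrArg SpSeq.FilObj.Hom.hom h1).trans (pushout.inl_desc _ _ _).symm
  · exact (congrArg SpSeq.FilObj.Hom.hom h2).trans (pushout.inr_desc _ _ _).symm

lemma isStrict_pushInr (hf : SpSeq.FilObj.IsStrict f) :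
    SpSeq.FilObj.IsStrict (pushInr f g) := by
  rw [isStrict_iff] at hf ⊢
  intro p U m hm
  obtain ⟨U₁, π₁, hπ₁, a, b, ha, hb, e⟩ := (sup_factors_iff _ _ _).1 hm
  obtain ⟨U₂, π₂, hπ₂, l, hl, ea⟩ := (image_arrow_factors_iff _ _ _).1 ha
  obtain ⟨U₃, π₃, hπ₃, n, hn, eb⟩ := (image_arrow_factors_iff _ _ _).1
    ((Subobject.factors_of_factors_right π₂ hb))
  have key : (π₃ ≫ π₂ ≫ π₁) ≫ m ≫ pushout.inr f.hom g.hom =
      (π₃ ≫ l) ≫ pushout.inl f.hom g.hom + n ≫ pushout.inr f.hom g.hom := by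
    have h2 : π₁ ≫ m ≫ pushout.inr f.hom g.hom = a + b := e
    simp only [Category.assoc]
    rw [h2, Preadditive.comp_add, Preadditive.comp_add, ea, eb]
  have w : (π₃ ≫ l) ≫ pushout.inl f.hom g.hom =
      ((π₃ ≫ π₂ ≫ π₁) ≫ m - n) ≫ pushout.inr f.hom g.hom := by
    rw [Preadditive.sub_comp, Category.assoc _ m, key, add_sub_cancel_right]
  obtain ⟨U₄, π₄, hπ₄, k, e1, e2⟩ :=
    pushout_rel (IsPushout.of_hasPushout f.hom g.hom) _ _ w
  have hkf : (L.fil p).Factors (k ≫ f.hom) := by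
    rw [← e1, ← Category.assoc]
    exact (L.fil p).factors_of_factors_right _ hl
  obtain ⟨U₅, π₅, hπ₅, k', hk', e'⟩ := hf p k hkf
  refine ⟨U₅, π₅ ≫ π₄ ≫ π₃ ≫ π₂ ≫ π₁, inferInstance, k' ≫ g.hom + (π₅ ≫ π₄) ≫ n,
    Subobject.factors_add _ _ (fil_map g p hk') ((M.fil p).factors_of_factors_right _ hn), ?_⟩
  calc (π₅ ≫ π₄ ≫ π₃ ≫ π₂ ≫ π₁) ≫ m ≫ pushout.inr f.hom g.hom
      = π₅ ≫ π₄ ≫ ((π₃ ≫ π₂ ≫ π₁) ≫ m ≫ pushout.inr f.hom g.hom) := by simp
    _ = π₅ ≫ π₄ ≫ ((π₃ ≫ l) ≫ pushout.inl f.hom g.hom + n ≫ pushout.inr f.hom g.hom) := by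
      rw [key]
    _ = (π₅ ≫ π₄ ≫ π₃ ≫ l) ≫ pushout.inl f.hom g.hom +
        (π₅ ≫ π₄) ≫ n ≫ pushout.inr f.hom g.hom := by simp
    _ = (k' ≫ f.hom) ≫ pushout.inl f.hom g.hom +
        (π₅ ≫ π₄) ≫ n ≫ pushout.inr f.hom g.hom := by rw [e1, e']
    _ = _ := by
      rw [Category.assoc, pushout.condition, Preadditive.add_comp]
      simp only [Category.assoc]

end Pushout

/-! ### Fibre products -/

section Pullback

variable (f : L ⟶ K) (g : M ⟶ K)

/-- The fibre product of filtered objects. -/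
noncomputable abbrev pullObj : SpSeq.FilObj A :=
  ⟨pullback f.hom g.hom, fun p => (Subobject.pullback (pullback.fst f.hom g.hom)).obj (L.fil p) ⊓
      (Subobject.pullback (pullback.snd f.hom g.hom)).obj (M.fil p),
    fun p q h => inf_le_inf
      (le_of_forall fun U y hy => (pullback_factors' _ _ y).2
        (Subobject.factors_of_le _ (L.anti h) ((pullback_factors' _ _ y).1 hy)))
      (le_of_forall fun U y hy => (pullback_factors' _ _ y).2
        (Subobject.factors_of_le _ (M.anti h) ((pullback_factors' _ _ y).1 hy)))⟩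

/-- The first projection. -/
noncomputable abbrev pullFst : pullObj f g ⟶ L := ⟨pullback.fst f.hom g.hom, fun _ => inf_le_left⟩

/-- The second projection. -/
noncomputable abbrev pullSnd : pullObj f g ⟶ M := ⟨pullback.snd f.hom g.hom, fun _ => inf_le_right⟩

lemma isPullback_pullObj : IsPullback (pullFst f g) (pullSnd f g) f g := by
  refine ⟨⟨SpSeq.FilObj.Hom.ext pullback.condition⟩, ⟨PullbackCone.IsLimit.mk _
    (fun s => ⟨pullback.lift s.fst.hom s.snd.hom
      (congrArg SpSeq.FilObj.Hom.hom s.condition), fun p => ?_⟩)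
    (fun s => SpSeq.FilObj.Hom.ext (pullback.lift_fst _ _ _))
    (fun s => SpSeq.FilObj.Hom.ext (pullback.lift_snd _ _ _))
    (fun s m h1 h2 => SpSeq.FilObj.Hom.ext (pullback.hom_ext ?_ ?_))⟩⟩
  · refine le_of_forall fun U y hy => (pullback_factors' _ _ y).2
      ((Subobject.inf_factors _).2 ⟨?_, ?_⟩) <;> rw [pullback_factors', Category.assoc]
    · rw [pullback.lift_fst]; exact fil_map s.fst p hy
    · rw [pullback.lift_snd]; exact fil_map s.snd p hy
  · exact (congrArg SpSeq.FilObj.Hom.hom h1).trans (pullback.lift_fst _ _ _).symm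
  · exact (congrArg SpSeq.FilObj.Hom.hom h2).trans (pullback.lift_snd _ _ _).symm

lemma isStrict_pullSnd (hf : SpSeq.FilObj.IsStrict f) :
    SpSeq.FilObj.IsStrict (pullSnd f g) := by
  rw [isStrict_iff] at hf ⊢
  intro p U x hx
  have hx' : (M.fil p).Factors (x ≫ pullback.snd f.hom g.hom) := hx
  have h1 : (K.fil p).Factors ((x ≫ pullback.fst f.hom g.hom) ≫ f.hom) := by
    rw [Category.assoc, pullback.condition, ← Category.assoc]
    exact fil_map g p hx'
  obtain ⟨U', π, hπ, l, hl, e⟩ := hf p _ h1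
  have w : l ≫ f.hom = (π ≫ x ≫ pullback.snd f.hom g.hom) ≫ g.hom := by
    rw [← e]; simp [pullback.condition]
  refine ⟨U', π, hπ, pullback.lift l (π ≫ x ≫ pullback.snd f.hom g.hom) w, ?_,
    (pullback.lift_snd _ _ _).symm⟩
  refine (Subobject.inf_factors _).2 ⟨?_, ?_⟩ <;> rw [pullback_factors']
  · rw [pullback.lift_fst]; exact hl
  · rw [pullback.lift_snd]; exact (M.fil p).factors_of_factors_right _ hx'

end Pullback

end Groth.Agent.SpSeq40
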